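import Cfsg.Agent.Lib.Fusion.Alperin
import Mathlib.GroupTheory.Nilpotent

/-!
# Elementary abelian subgroups of largest order, and the replacement argument

`dEA p P` is the largest order of an elementary abelian subgroup of `P`, `jEA p P` the subgroup they generate.
When one of them is not in a subgroup centralizing `V`, one of them acts quadratically on `V`.
-/

set_option autoImplicit false

namespace Cfsg.Agent.Lim1

open Cfsg Cfsg.Agent.FusionSys
open scoped Classical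

variable {Ω : Type*} [Group Ω]

/-- An elementary abelian subgroup. -/
def IsEA (p : ℕ) (A : Subgroup Ω) : Prop := (∀ a ∈ A, ∀ b ∈ A, a * b = b * a) ∧ ∀ a ∈ A, a ^ p = 1

/-- The largest order of an elementary abelian subgroup of `P`. -/
noncomputable def dEA (p : ℕ) (P : Subgroup Ω) : ℕ :=
  sSup ((fun A : Subgroup Ω => Nat.card A) '' {A | A ≤ P ∧ IsEA p A})

/-- The subgroup generated by the elementary abelian subgroups of largest order. -/
noncomputable def jEA (p : ℕ) (P : Subgroup Ω) : Subgroup Ω :=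
  sSup {A | A ≤ P ∧ IsEA p A ∧ Nat.card A = dEA p P}

/-- The pair of the two numbers, in the lexicographic order, as one number. -/
noncomputable def key (p bound : ℕ) (P : Subgroup Ω) : ℕ :=
  dEA p P * (bound + 1) + Nat.card (jEA p P)

variable {p : ℕ}

theorem jEA_le (P : Subgroup Ω) : jEA p P ≤ P := sSup_le fun _ h => h.1

theorem bddAbove_card (P : Subgroup Ω) [Finite P] :
    BddAbove ((fun A : Subgroup Ω => Nat.card A) '' {A | A ≤ P ∧ IsEA p A}) :=
  ⟨Nat.card P, by rintro _ ⟨A, hA, rfl⟩; exact Subgroup.card_le_of_le hA.1⟩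

theorem card_le_dEA {P A : Subgroup Ω} [Finite P] (hA : A ≤ P) (h : IsEA p A) : Nat.card A ≤ dEA p P :=
  le_csSup (bddAbove_card P) ⟨A, ⟨hA, h⟩, rfl⟩

theorem exists_card_dEA (P : Subgroup Ω) [Finite P] :
    ∃ A, A ≤ P ∧ IsEA p A ∧ Nat.card A = dEA p P := by
  have hne : ((fun A : Subgroup Ω => Nat.card A) '' {A | A ≤ P ∧ IsEA p A}).Nonempty := by
    refine ⟨_, ⊥, ⟨bot_le, fun a ha b hb => ?_, fun a ha => ?_⟩, rfl⟩
    · rw [Subgroup.mem_bot.1 ha, Subgroup.mem_bot.1 hb]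
    · rw [Subgroup.mem_bot.1 ha, one_pow]
  obtain ⟨A, hA, he⟩ := Nat.sSup_mem hne (bddAbove_card P)
  exact ⟨A, hA.1, hA.2, he⟩

theorem le_jEA {P A : Subgroup Ω} [Finite P] (hA : A ≤ P) (h : IsEA p A) (hd : dEA p P ≤ Nat.card A) :
    A ≤ jEA p P :=
  le_sSup ⟨hA, h, le_antisymm (card_le_dEA hA h) hd⟩

theorem dEA_mono {P Q : Subgroup Ω} [Finite Q] (h : P ≤ Q) : dEA p P ≤ dEA p Q := by
  haveI := finite_of_le h
  obtain ⟨A, hA, hEA, hc⟩ := exists_card_dEA (p := p) P
  exact hc ▸ card_le_dEA (hA.trans h) hEA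

theorem jEA_mono {P Q : Subgroup Ω} [Finite Q] (h : P ≤ Q) (hd : dEA p P = dEA p Q) : jEA p P ≤ jEA p Q :=
  sSup_le fun _ hA => le_jEA (hA.1.trans h) hA.2.1 (by rw [hA.2.2, hd])

theorem card_jEA_le {P S : Subgroup Ω} [Finite S] (h : P ≤ S) : Nat.card (jEA p P) ≤ Nat.card S :=
  Subgroup.card_le_of_le ((jEA_le P).trans h)

/-- Lexicographic comparison. -/
theorem key_mono {P Q S : Subgroup Ω} [Finite S] (h : P ≤ Q) (hQ : Q ≤ S) :
    key p (Nat.card S) P ≤ key p (Nat.card S) Q := by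
  haveI := finite_of_le hQ
  rcases eq_or_lt_of_le (dEA_mono (p := p) h) with he | hlt
  · haveI := finite_of_le ((jEA_le (p := p) Q).trans hQ)
    exact Nat.add_le_add (le_of_eq (by rw [he])) (Subgroup.card_le_of_le (jEA_mono h he))
  · have h1 := card_jEA_le (p := p) (h.trans hQ)
    have h2 : (dEA p P + 1) * (Nat.card S + 1) ≤ dEA p Q * (Nat.card S + 1) := Nat.mul_le_mul_right _ hlt
    unfold key
    rw [add_mul, one_mul] at h2
    omega

theorem jEA_eq_of_key_le {P Q S : Subgroup Ω} [Finite S] (h : P ≤ Q) (hQ : Q ≤ S)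
    (hk : key p (Nat.card S) Q ≤ key p (Nat.card S) P) : dEA p P = dEA p Q ∧ jEA p P = jEA p Q := by
  haveI := finite_of_le hQ
  haveI := finite_of_le ((jEA_le (p := p) Q).trans hQ)
  rcases eq_or_lt_of_le (dEA_mono (p := p) h) with he | hlt
  · refine ⟨he, Subgroup.eq_of_le_of_card_ge (jEA_mono h he) ?_⟩
    unfold key at hk
    rw [he] at hk
    omega
  · exfalso
    have h1 := card_jEA_le (p := p) (h.trans hQ)
    have h2 : (dEA p P + 1) * (Nat.card S + 1) ≤ dEA p Q * (Nat.card S + 1) := Nat.mul_le_mul_right _ hlt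
    unfold key at hk
    rw [add_mul, one_mul] at h2
    omega

theorem IsEA.map {P A : Subgroup Ω} (φ : P →* Ω) (hA : IsEA p A) :
    IsEA p ((A.subgroupOf P).map φ) := by
  refine ⟨?_, ?_⟩
  · rintro _ ⟨a, ha, rfl⟩ _ ⟨b, hb, rfl⟩
    rw [← map_mul, ← map_mul]
    exact congrArg φ (Subtype.ext (hA.1 _ ha _ hb))
  · rintro _ ⟨a, ha, rfl⟩
    rw [← map_pow, show a ^ p = 1 from Subtype.ext (by rw [SubgroupClass.coe_pow]; exact hA.2 _ ha), map_one]

theorem card_map_of_le {P A : Subgroup Ω} {φ : P →* Ω} (hφ : Function.Injective φ) (hA : A ≤ P) :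
    Nat.card ((A.subgroupOf P).map φ) = Nat.card A := by
  rw [Subgroup.card_map_of_injective hφ, Nat.card_congr (Subgroup.subgroupOfEquivOfLe hA).toEquiv]

/-- An injective map carries the data along. -/
theorem dEA_jEA_range {P : Subgroup Ω} [Finite P] {φ : P →* Ω} (hφ : Function.Injective φ) :
    dEA p φ.range = dEA p P ∧ jEA p φ.range = ((jEA p P).subgroupOf P).map φ := by
  haveI : Finite φ.range := Finite.of_surjective φ.rangeRestrict φ.rangeRestrict_surjective
  have hback : ∀ A, A ≤ φ.range → IsEA p A → ∃ A0 ≤ P, IsEA p A0 ∧ Nat.card A0 = Nat.card A ∧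
      (A0.subgroupOf P).map φ = A := by
    intro A hA hEA
    have hm : ((A.comap φ).map P.subtype).subgroupOf P = A.comap φ := by
      ext x
      simp [Subgroup.mem_subgroupOf]
    refine ⟨(A.comap φ).map P.subtype, Subgroup.map_subtype_le _, ⟨?_, ?_⟩, ?_, ?_⟩
    · rintro _ ⟨a, ha, rfl⟩ _ ⟨b, hb, rfl⟩
      rw [← map_mul, ← map_mul]
      refine congrArg P.subtype (hφ ?_)
      rw [map_mul, map_mul]
      exact hEA.1 _ ha _ hb
    · rintro _ ⟨a, ha, rfl⟩
      rw [← map_pow, show a ^ p = 1 from hφ (by rw [map_pow, map_one]; exact hEA.2 _ ha), map_one]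
    · rw [← card_map_of_le hφ (Subgroup.map_subtype_le _), hm, Subgroup.map_comap_eq_self hA]
    · rw [hm, Subgroup.map_comap_eq_self hA]
  have hd : dEA p φ.range = dEA p P := by
    refine le_antisymm ?_ ?_
    · obtain ⟨A, hA, hEA, hc⟩ := exists_card_dEA (p := p) φ.range
      obtain ⟨A0, h0, hE0, hc0, -⟩ := hback A hA hEA
      rw [← hc, ← hc0]
      exact card_le_dEA h0 hE0
    · obtain ⟨A, hA, hEA, hc⟩ := exists_card_dEA (p := p) P
      rw [← hc, ← card_map_of_le hφ hA]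
      exact card_le_dEA (MonoidHom.range_eq_map φ ▸ Subgroup.map_mono le_top) (hEA.map φ)
  refine ⟨hd, le_antisymm (sSup_le fun A hA => ?_) ?_⟩
  · obtain ⟨A0, h0, hE0, hc0, rfl⟩ := hback A hA.1 hA.2.1
    exact Subgroup.map_mono (fun x hx => le_jEA h0 hE0 (by rw [hc0, hA.2.2, hd]) hx)
  · rw [Subgroup.map_le_iff_le_comap]
    have hle : jEA p P ≤ ((jEA p φ.range).comap φ).map P.subtype := by
      refine sSup_le fun A hA x hx => ?_
      exact ⟨⟨x, hA.1 hx⟩, le_jEA (MonoidHom.range_eq_map φ ▸ Subgroup.map_mono le_top) (hA.2.1.map φ)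
        (by rw [hd, card_map_of_le hφ hA.1, hA.2.2]) ⟨⟨x, hA.1 hx⟩, hx, rfl⟩, rfl⟩
    intro x hx
    obtain ⟨y, hy, he⟩ := hle hx
    exact (Subtype.ext he : y = x) ▸ hy

theorem key_range {P S : Subgroup Ω} [Finite S] (hP : P ≤ S) {φ : P →* Ω} (hφ : Function.Injective φ) :
    key p (Nat.card S) φ.range = key p (Nat.card S) P := by
  haveI := finite_of_le hP
  obtain ⟨h1, h2⟩ := dEA_jEA_range (p := p) hφ
  unfold key
  rw [h1, h2, card_map_of_le hφ (jEA_le P)]

theorem normalizer_le_normalizer_jEA (P : Subgroup Ω) [Finite P] :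
    Subgroup.normalizer (P : Set Ω) ≤ Subgroup.normalizer (jEA p P : Set Ω) := by
  intro g hg
  haveI := finite_of_le (jEA_le (p := p) P)
  refine mem_normalizer_of_conj_mem_finite fun x hx => ?_
  suffices jEA p P ≤ (jEA p P).comap (MulAut.conj g).toMonoidHom from this hx
  refine sSup_le fun A hA y hy => ?_
  refine le_jEA (A := A.map (MulAut.conj g).toMonoidHom) ?_ ⟨?_, ?_⟩ ?_ ⟨y, hy, rfl⟩
  · rintro _ ⟨a, ha, rfl⟩
    exact (Subgroup.mem_normalizer_iff.1 hg a).1 (hA.1 ha)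
  · rintro _ ⟨a, ha, rfl⟩ _ ⟨b, hb, rfl⟩
    rw [← map_mul, ← map_mul, hA.2.1.1 a ha b hb]
  · rintro _ ⟨a, ha, rfl⟩
    rw [← map_pow, hA.2.1.2 a ha, map_one]
  · rw [Subgroup.card_map_of_injective (MulAut.conj g).injective, hA.2.2]

/-- An element of order dividing `p` centralizing an elementary abelian subgroup of largest order lies in it. -/
theorem mem_of_max {P A : Subgroup Ω} [Finite P] (hA : A ≤ P) (hEA : IsEA p A)
    (hd : dEA p P ≤ Nat.card A) {v : Ω} (hv : v ∈ P) (hvp : v ^ p = 1) (hc : ∀ a ∈ A, v * a = a * v) :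
    v ∈ A := by
  have hcomm : ∀ x ∈ A ⊔ Subgroup.zpowers v, ∀ y ∈ A ⊔ Subgroup.zpowers v, x * y = y * x := by
    have hle : A ⊔ Subgroup.zpowers v ≤ Subgroup.centralizer ((A : Set Ω) ∪ {v}) := by
      refine sup_le (fun a ha => Subgroup.mem_centralizer_iff.2 ?_) (Subgroup.zpowers_le.2
        (Subgroup.mem_centralizer_iff.2 ?_))
      · rintro y (hy | rfl)
        · exact hEA.1 y hy a ha
        · exact hc a ha
      · rintro y (hy | rfl)
        · exact (hc y hy).symm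
        · rfl
    intro x hx y hy
    have hy' : y ∈ Subgroup.centralizer ((A ⊔ Subgroup.zpowers v : Subgroup Ω) : Set Ω) := by
      have hle2 : A ⊔ Subgroup.zpowers v ≤ Subgroup.centralizer ({y} : Set Ω) := by
        refine sup_le (fun a ha => ?_) (Subgroup.zpowers_le.2 ?_)
        · exact Subgroup.mem_centralizer_singleton_iff.2 (Subgroup.mem_centralizer_iff.1 (hle hy) a (Or.inl ha))
        · exact Subgroup.mem_centralizer_singleton_iff.2 (Subgroup.mem_centralizer_iff.1 (hle hy) v (Or.inr rfl))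
      exact Subgroup.mem_centralizer_iff.2 fun z hz => Subgroup.mem_centralizer_singleton_iff.1 (hle2 hz)
    exact Subgroup.mem_centralizer_iff.1 hy' x hx
  have hAv : A ⊔ Subgroup.zpowers v ≤ P := sup_le hA (Subgroup.zpowers_le.2 hv)
  have hEA' : IsEA p (A ⊔ Subgroup.zpowers v) := by
    refine ⟨hcomm, fun x hx => ?_⟩
    haveI := finite_of_le hA
    have hnv : Subgroup.zpowers v ≤ Subgroup.normalizer (A : Set Ω) := Subgroup.zpowers_le.2
      (mem_normalizer_of_conj_mem_finite fun a ha => by rw [hc a ha, mul_inv_cancel_right]; exact ha)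
    rw [← SetLike.mem_coe, Subgroup.coe_mul_of_right_le_normalizer_left A _ hnv] at hx
    obtain ⟨a, ha, b, hb, rfl⟩ := hx
    obtain ⟨k, rfl⟩ := Subgroup.mem_zpowers_iff.1 hb
    have hab : Commute a (v ^ k) := hcomm a (Subgroup.mem_sup_left ha) _ (Subgroup.mem_sup_right hb)
    rw [hab.mul_pow, hEA.2 a ha, one_mul, ← zpow_natCast, ← zpow_mul, mul_comm, zpow_mul, zpow_natCast,
      hvp, one_zpow]
  haveI := finite_of_le hAv
  rw [Subgroup.eq_of_le_of_card_ge (le_sup_left : A ≤ A ⊔ Subgroup.zpowers v)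
    ((card_le_dEA hAv hEA').trans hd)]
  exact Subgroup.mem_sup_right (Subgroup.mem_zpowers v)

/-! ### Replacement -/

/-- The commutator map. -/
def cm (b v : Ω) : Ω := b * v * b⁻¹ * v⁻¹

theorem exists_quadratic [Fact p.Prime] {N V Y : Subgroup Ω} [Finite N] (hN : IsPGroup p N) (hVN : V ≤ N)
    (hV : IsEA p V) (hnorm : N ≤ Subgroup.normalizer (V : Set Ω))
    (hY : ∀ y ∈ Y, ∀ v ∈ V, y * v = v * y)
    (hex : ∃ B, B ≤ N ∧ IsEA p B ∧ Nat.card B = dEA p N ∧ ¬ B ≤ Y) :
    ∃ B, B ≤ N ∧ IsEA p B ∧ Nat.card B = dEA p N ∧ ¬ B ≤ Y ∧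
      ∀ b ∈ B, ∀ v ∈ V, cm b (cm b v) = 1 := by
  have hfin : {B : Subgroup Ω | B ≤ N ∧ IsEA p B ∧ Nat.card B = dEA p N ∧ ¬ B ≤ Y}.Finite :=
    setOf_le_finite.subset fun B hB => hB.1
  obtain ⟨B, ⟨hBN, hB, hBd, hBY⟩, hmax⟩ := Set.exists_max_image _ (fun B => Nat.card (B ⊓ V : Subgroup Ω)) hfin hex
  haveI := finite_of_le hBN
  refine ⟨B, hBN, hB, hBd, hBY, ?_⟩
  by_contra hquad
  simp only [not_forall] at hquad
  obtain ⟨b₀, hb₀, a, ha, hne⟩ := hquad
  have hcmV : ∀ b ∈ B, ∀ v ∈ V, cm b v ∈ V := fun b hb v hv =>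
    V.mul_mem ((Subgroup.mem_normalizer_iff.1 (hnorm (hBN hb)) v).1 hv) (V.inv_mem hv)
  set U := Subgroup.closure ((fun b => cm b a) '' (B : Set Ω)) with hU
  have hUV : U ≤ V := (Subgroup.closure_le _).2 (by rintro _ ⟨b, hb, rfl⟩; exact hcmV b hb a ha)
  set C := B ⊓ Subgroup.centralizer (U : Set Ω) with hC
  have hUC : ∀ u ∈ U, ∀ c ∈ C, u * c = c * u := fun u hu c hc => Subgroup.mem_centralizer_iff.1 hc.2 u hu
  have hsup : ∀ x ∈ U ⊔ C, ∃ u ∈ U, ∃ c ∈ C, x = u * c := by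
    intro x hx
    have hnC : C ≤ Subgroup.normalizer (U : Set Ω) := fun c hc => by
      haveI := finite_of_le (hUV.trans hVN)
      refine mem_normalizer_of_conj_mem_finite fun u hu => ?_
      rw [← hUC u hu c hc, mul_inv_cancel_right]; exact hu
    rw [← SetLike.mem_coe, Subgroup.coe_mul_of_right_le_normalizer_left U C hnC] at hx
    obtain ⟨u, hu, c, hc, rfl⟩ := hx
    exact ⟨u, hu, c, hc, rfl⟩
  have hBstar : IsEA p (U ⊔ C) := by
    refine ⟨fun x hx y hy => ?_, fun x hx => ?_⟩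
    · obtain ⟨u, hu, c, hc, rfl⟩ := hsup x hx
      obtain ⟨u', hu', c', hc', rfl⟩ := hsup y hy
      have h1 : Commute u u' := hV.1 u (hUV hu) u' (hUV hu')
      have h2 : Commute u c' := hUC u hu c' hc'
      have h3 : Commute c u' := (hUC u' hu' c hc).symm
      have h4 : Commute c c' := hB.1 c hc.1 c' hc'.1
      exact ((h1.mul_right h2).mul_left (h3.mul_right h4))
    · obtain ⟨u, hu, c, hc, rfl⟩ := hsup x hx
      rw [(show Commute u c from hUC u hu c hc).mul_pow, hV.2 u (hUV hu), hB.2 c hc.1, one_mul]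
  have hBsN : U ⊔ C ≤ N := sup_le (hUV.trans hVN) (inf_le_left.trans hBN)
  haveI := finite_of_le hBsN
  haveI := finite_of_le (hUV.trans hVN)
  -- the order has not dropped
  have hcard : Nat.card B ≤ Nat.card (U ⊔ C : Subgroup Ω) := by
    let f : B → ↥U ⧸ B.subgroupOf U := fun b =>
      QuotientGroup.mk ⟨cm b a, Subgroup.subset_closure ⟨b, b.2, rfl⟩⟩
    have hfib : ∀ b1 b2 : B, f b1 = f b2 → (b2 : Ω)⁻¹ * b1 ∈ C := by
      intro b1 b2 he
      have hw : (cm (b2 : Ω) a)⁻¹ * cm (b1 : Ω) a ∈ B := Subgroup.mem_subgroupOf.1 (QuotientGroup.eq.1 he.symm)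
      set b := (b2 : Ω)⁻¹ * b1 with hb
      have hbB : b ∈ B := B.mul_mem (B.inv_mem b2.2) b1.2
      set w := cm b a with hw'
      have hwV : w ∈ V := hcmV b hbB a ha
      have hwB : w ∈ B := by
        have h1 : (cm (b2 : Ω) a)⁻¹ * cm (b1 : Ω) a = cm (b1 : Ω) a * (cm (b2 : Ω) a)⁻¹ :=
          hV.1 _ (V.inv_mem (hcmV _ b2.2 a ha)) _ (hcmV _ b1.2 a ha)
        have h2 : w = (b2 : Ω)⁻¹ * (cm (b1 : Ω) a * (cm (b2 : Ω) a)⁻¹) * b2 := by
          simp only [hw', hb, cm]; group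
        rw [← h1] at h2
        rw [h2]
        exact B.mul_mem (B.mul_mem (B.inv_mem b2.2) hw) b2.2
      refine ⟨hbB, Subgroup.mem_centralizer_iff.2 ?_⟩
      have key : U ≤ Subgroup.centralizer ({b} : Set Ω) := by
        refine (Subgroup.closure_le _).2 ?_
        rintro _ ⟨c, hc, rfl⟩
        refine Subgroup.mem_centralizer_singleton_iff.2 ?_
        have hcw : c * w = w * c := hB.1 c hc w hwB
        have hcaV : cm c a ∈ V := hcmV c hc a ha
        have e1 : b * cm c a * b⁻¹ = c * (b * a * b⁻¹) * c⁻¹ * (b * a * b⁻¹)⁻¹ := by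
          have hbc : b * c = c * b := hB.1 b hbB c hc
          calc b * cm c a * b⁻¹ = b * c * a * (b * c)⁻¹ * (b * a * b⁻¹)⁻¹ := by simp only [cm]; group
            _ = c * (b * a * b⁻¹) * c⁻¹ * (b * a * b⁻¹)⁻¹ := by rw [hbc]; group
        have e2 : b * a * b⁻¹ = w * a := by simp only [hw', cm]; group
        rw [e2] at e1
        have e3 : c * (w * a) * c⁻¹ * (w * a)⁻¹ = cm c a := by
          calc c * (w * a) * c⁻¹ * (w * a)⁻¹ = (c * w) * a * c⁻¹ * a⁻¹ * w⁻¹ := by group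
            _ = w * cm c a * w⁻¹ := by rw [hcw]; simp only [cm]; group
            _ = cm c a := by rw [hV.1 w hwV _ hcaV, mul_inv_cancel_right]
        rw [e3, mul_inv_eq_iff_eq_mul] at e1
        exact e1.symm
      exact fun u hu => Subgroup.mem_centralizer_singleton_iff.1 (key hu)
    let g : B → ↥(U ⊔ C : Subgroup Ω) := fun b =>
      ⟨((f b).out : Ω) * (((Function.invFun f (f b) : B) : Ω)⁻¹ * b), Subgroup.mul_mem_sup (f b).out.2
        (hfib b _ (Function.invFun_eq (f := f) ⟨b, rfl⟩).symm)⟩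
    refine Nat.card_le_card_of_injective g fun b1 b2 he => ?_
    have he' := congrArg Subtype.val he
    simp only [g] at he'
    set c1 := ((Function.invFun f (f b1) : B) : Ω)⁻¹ * b1
    set c2 := ((Function.invFun f (f b2) : B) : Ω)⁻¹ * b2
    have hc1 : c1 ∈ C := hfib b1 _ (Function.invFun_eq (f := f) ⟨b1, rfl⟩).symm
    have hc2 : c2 ∈ C := hfib b2 _ (Function.invFun_eq (f := f) ⟨b2, rfl⟩).symm
    have hf : f b1 = f b2 := by
      rw [← QuotientGroup.out_eq' (f b1), ← QuotientGroup.out_eq' (f b2)]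
      refine QuotientGroup.eq.2 (Subgroup.mem_subgroupOf.2 ?_)
      have : ((f b1).out : Ω)⁻¹ * ((f b2).out : Ω) = c1 * c2⁻¹ := by
        rw [inv_mul_eq_iff_eq_mul, ← mul_assoc, he', mul_inv_cancel_right]
      rw [Subgroup.coe_mul, Subgroup.coe_inv, this]
      exact B.mul_mem hc1.1 (B.inv_mem hc2.1)
    rw [hf] at he'
    have := mul_left_cancel he'
    simp only [c1, c2, hf] at this
    exact Subtype.ext (mul_left_cancel this)
  -- it meets `V` in more, hence lies in `Y`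
  have hBd' : Nat.card (U ⊔ C : Subgroup Ω) = dEA p N :=
    le_antisymm (card_le_dEA hBsN hBstar) (hBd ▸ hcard)
  have hBsY : U ⊔ C ≤ Y := by
    by_contra hnY
    have h1 := hmax _ ⟨hBsN, hBstar, hBd', hnY⟩
    have hle : B ⊓ V ≤ (U ⊔ C) ⊓ V := fun v hv => ⟨Subgroup.mem_sup_right ⟨hv.1,
      Subgroup.mem_centralizer_iff.2 fun u hu => hV.1 u (hUV hu) v hv.2⟩, hv.2⟩
    haveI := finite_of_le ((inf_le_left : (U ⊔ C) ⊓ V ≤ U ⊔ C).trans hBsN)
    have he := Subgroup.eq_of_le_of_card_ge hle h1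
    apply hne
    have hu : cm b₀ a ∈ U := Subgroup.subset_closure ⟨b₀, hb₀, rfl⟩
    have huB : cm b₀ a ∈ B := (he.ge ⟨Subgroup.mem_sup_left hu, hUV hu⟩).1
    show b₀ * cm b₀ a * b₀⁻¹ * (cm b₀ a)⁻¹ = 1
    rw [hB.1 b₀ hb₀ _ huB, mul_inv_cancel_right, mul_inv_cancel]
  -- then `V ≤ U C` and `[V, B] = [V, B, B]`
  have hCV : ∀ c ∈ C, ∀ v ∈ V, c * v = v * c := fun c hc v hv => hY c (hBsY (Subgroup.mem_sup_right hc)) v hv
  have hVle : V ≤ U ⊔ C := fun v hv => mem_of_max hBsN hBstar hBd'.ge (hVN hv) (hV.2 v hv)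
    fun x hx => (hY x (hBsY hx) v hv).symm
  set D := Subgroup.closure {d : Ω | ∃ b ∈ B, ∃ v ∈ V, d = cm b v} with hD
  have hDN : D ≤ N := (Subgroup.closure_le _).2 (by rintro _ ⟨b, hb, v, hv, rfl⟩; exact hVN (hcmV b hb v hv))
  have hUD : U ≤ D := (Subgroup.closure_le _).2 (by
    rintro _ ⟨b, hb, rfl⟩; exact Subgroup.subset_closure ⟨b, hb, a, ha, rfl⟩)
  have hDD : D ≤ ⁅B, D⁆ := by
    refine (Subgroup.closure_le _).2 ?_
    rintro _ ⟨b, hb, v, hv, rfl⟩
    obtain ⟨u, hu, c, hc, rfl⟩ := hsup v (hVle hv)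
    have : cm b (u * c) = cm b u := by
      have hbc : b * c = c * b := hB.1 b hb c hc.1
      calc cm b (u * c) = b * u * (c * b⁻¹ * c⁻¹) * u⁻¹ := by simp only [cm]; group
        _ = cm b u := by
          rw [show c * b⁻¹ * c⁻¹ = b⁻¹ by rw [mul_inv_eq_iff_eq_mul, eq_inv_mul_iff_mul_eq, ← mul_assoc, hbc, mul_inv_cancel_right]]
          simp only [cm]
    rw [this]
    exact Subgroup.commutator_mem_commutator hb (hUD hu)
  have hDbot : D = ⊥ := by
    have hnil : Group.IsNilpotent N := hN.isNilpotent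
    obtain ⟨n, hn⟩ := nilpotent_iff_lowerCentralSeries.1 hnil
    have hk : ∀ k, D.subgroupOf N ≤ Subgroup.lowerCentralSeries (⊤ : Subgroup N) k := by
      intro k
      induction k with
      | zero => simp
      | succ k ih =>
        have h1 : D.subgroupOf N ≤ ⁅B.subgroupOf N, D.subgroupOf N⁆ := by
          intro x hx
          have h := hDD hx
          have hm : (⁅B.subgroupOf N, D.subgroupOf N⁆).map N.subtype = ⁅B, D⁆ := by
            rw [Subgroup.map_commutator, Subgroup.subgroupOf_map_subtype, Subgroup.subgroupOf_map_subtype,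
              inf_of_le_left hBN, inf_of_le_left hDN]
          rw [← hm] at h
          obtain ⟨y, hy, he⟩ := h
          exact (Subtype.ext he : y = x) ▸ hy
        refine h1.trans ?_
        rw [Subgroup.commutator_comm, Subgroup.lowerCentralSeries_succ]
        exact Subgroup.commutator_mono ih le_top
    rw [eq_bot_iff]
    intro x hx
    have := hk n (show (⟨x, hDN hx⟩ : N) ∈ D.subgroupOf N from hx)
    rw [hn, Subgroup.mem_bot] at this
    exact congrArg Subtype.val this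
  apply hne
  have h1 : cm b₀ a = 1 := by
    have : cm b₀ a ∈ D := Subgroup.subset_closure ⟨b₀, hb₀, a, ha, rfl⟩
    rwa [hDbot] at this
  rw [h1]; simp [cm]

end Cfsg.Agent.Lim1
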