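import Cfsg.Agent.Lib.Lim1.Local
import Cfsg.Agent.Lib.Lim1.Offender
import Cfsg.Agent.Lib.Fusion.WeaklyNormalResidual

/-!
# The subgroups `J(P) C_T(J(P))`
-/

set_option autoImplicit false
set_option linter.unusedSectionVars false
set_option linter.style.haveILetI false

namespace Cfsg.Agent.Lim1

open Cfsg Cfsg.FusionSystem Cfsg.Agent.FusionSys
open scoped IsMulCommutative

variable {Ω : Type*} [Group Ω] {S T : Subgroup Ω}

/-- `R = J(R) C_T(J(R))` with `J(R)` fully centralized. -/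
def IsCore (p : ℕ) (E : FusionSystem T) (R : Subgroup Ω) : Prop :=
  R = jEA p R ⊔ centralizerIn T (jEA p R) ∧ E.IsFullyCentralized (jEA p R)

variable [Finite T] {p : ℕ} [hp : Fact p.Prime] {E : FusionSystem T}

theorem IsCore.le {R : Subgroup Ω} (hR : IsCore p E R) : R ≤ T := by
  rw [hR.1]; exact sup_le hR.2.1 (centralizerIn_le _ _)

/-- An image of a centralizer of largest order is the whole centralizer. -/
theorem map_centralizerIn {M Y : Subgroup Ω} {φ : M →* Ω} (hφ : φ ∈ E.Hom M) (hY : Y ≤ M)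
    (hC : centralizerIn T Y ≤ M) (hfc : E.IsFullyCentralized Y) :
    centralizerIn T ((Y.subgroupOf M).map φ) = ((centralizerIn T Y).subgroupOf M).map φ := by
  haveI : Finite (centralizerIn T ((Y.subgroupOf M).map φ)) := finite_of_le (centralizerIn_le _ _)
  refine (Subgroup.eq_of_le_of_card_ge ?_ ?_).symm
  · rintro _ ⟨c, hc, rfl⟩
    refine ⟨hom_apply_mem E hφ c, Subgroup.mem_centralizer_iff.2 ?_⟩
    rintro _ ⟨u, hu, rfl⟩
    rw [← map_mul, ← map_mul]
    exact congrArg φ (Subtype.ext (Subgroup.mem_centralizer_iff.1 hc.2 u hu))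
  · rw [card_map_of_le (E.injective_of_mem hφ) hC]
    exact hfc.2 _ ⟨_, restrict_mem E hφ hY, range_restrict φ hY⟩

theorem IsCore.map {R : Subgroup Ω} (hR : IsCore p E R) {φ : R →* Ω} (hφ : φ ∈ E.Hom R) :
    E.IsConj (jEA p R) (jEA p φ.range) ∧
      φ.range = jEA p φ.range ⊔ centralizerIn T (jEA p φ.range) ∧
      centralizerIn T φ.range ≤ φ.range := by
  haveI := finite_of_le hR.le
  have hC : centralizerIn T (jEA p R) ≤ R := le_of_le_of_eq le_sup_right hR.1.symm
  obtain ⟨-, hJ⟩ := dEA_jEA_range (p := p) (E.injective_of_mem hφ)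
  have hcent := map_centralizerIn hφ (jEA_le R) hC hR.2
  rw [← hJ] at hcent
  have hsup : φ.range = jEA p φ.range ⊔ centralizerIn T (jEA p φ.range) := by
    refine le_antisymm ?_ (sup_le (jEA_le _) ?_)
    · rw [hJ, MonoidHom.range_eq_map, Subgroup.map_le_iff_le_comap]
      rintro ⟨x, hx⟩ -
      have hle : R ≤ ((((jEA p R).subgroupOf R).map φ ⊔ centralizerIn T (((jEA p R).subgroupOf R).map φ)).comap φ).map
          R.subtype := by
        refine le_of_eq_of_le hR.1 (sup_le (fun u hu => ⟨⟨u, jEA_le R hu⟩, Subgroup.mem_sup_left ⟨_, hu, rfl⟩, rfl⟩)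
          fun u hu => ⟨⟨u, hC hu⟩, Subgroup.mem_sup_right ?_, rfl⟩)
        rw [← hJ, hcent]
        exact ⟨_, hu, rfl⟩
      obtain ⟨z, hz, he⟩ := hle hx
      exact (show z = ⟨x, hx⟩ from Subtype.ext he) ▸ hz
    · rw [hcent]
      exact MonoidHom.range_eq_map φ ▸ Subgroup.map_mono le_top
  refine ⟨?_, hsup, ?_⟩
  · rw [hJ]
    exact ⟨_, restrict_mem E hφ (jEA_le R), range_restrict φ (jEA_le R)⟩
  · refine le_trans (inf_le_inf_left T (Subgroup.centralizer_le ?_)) (le_of_le_of_eq le_sup_right hsup.symm)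
    exact jEA_le φ.range

theorem IsCore.centric {R : Subgroup Ω} (hR : IsCore p E R) : E.IsCentric R :=
  ⟨hR.le, fun Q ⟨φ, hφ, hr⟩ => hr ▸ (hR.map hφ).2.2⟩

/-- Subgroups containing `jEA T` have it as their own. -/
theorem jEA_eq_top {R : Subgroup Ω} (hR : R ≤ T) (hJ : jEA p T ≤ R) :
    dEA p R = dEA p T ∧ jEA p R = jEA p T := by
  haveI := finite_of_le hR
  obtain ⟨A, hA, hEA, hc⟩ := exists_card_dEA (p := p) T
  have hd : dEA p R = dEA p T := le_antisymm (dEA_mono hR)
    (hc ▸ card_le_dEA ((le_jEA hA hEA hc.ge).trans hJ) hEA)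
  refine ⟨hd, le_antisymm (jEA_mono hR hd) (sSup_le fun B hB => ?_)⟩
  exact le_jEA ((le_jEA hB.1 hB.2.1 hB.2.2.ge).trans hJ) hB.2.1 (by rw [hB.2.2, hd])

/-- The subgroup `J(T) C_T(J(T))`. -/
noncomputable def topCore (p : ℕ) (T : Subgroup Ω) : Subgroup Ω := jEA p T ⊔ centralizerIn T (jEA p T)

theorem topCore_le : topCore p T ≤ T := sup_le (jEA_le T) (centralizerIn_le _ _)

theorem jEA_image {φ : jEA p T →* Ω} (hφ : φ ∈ E.Hom (jEA p T)) : φ.range = jEA p T := by
  haveI := finite_of_le (jEA_le (p := p) T)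
  haveI : Finite φ.range := finite_of_le (range_le E hφ)
  obtain ⟨hd, hj⟩ := jEA_eq_top (p := p) (jEA_le T) le_rfl
  obtain ⟨h1, h2⟩ := dEA_jEA_range (p := p) (E.injective_of_mem hφ)
  rw [hj] at h2
  have h3 : jEA p φ.range = φ.range := by
    rw [h2, MonoidHom.range_eq_map]
    refine congrArg (Subgroup.map φ) ?_
    exact Subgroup.subgroupOf_self _
  rw [← h3]
  refine Subgroup.eq_of_le_of_card_ge ?_ (le_of_eq ?_)
  · exact jEA_mono (range_le E hφ) (h1.trans hd)
  · rw [h3, isConj_card ⟨φ, hφ, rfl⟩]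

theorem isCore_topCore : IsCore p E (topCore p T) := by
  obtain ⟨-, hj⟩ := jEA_eq_top (p := p) (topCore_le (T := T)) (le_sup_left : jEA p T ≤ topCore p T)
  unfold IsCore
  rw [hj]
  refine ⟨rfl, jEA_le T, fun Q ⟨φ, hφ, hr⟩ => le_of_eq ?_⟩
  rw [← hr, jEA_image hφ]

/-- Automorphisms of the strongly closed `T` and conjugations by `S` fix `J(T) C_T(J(T))`. -/
theorem le_normalizer_topCore {G : Subgroup Ω} (hG : G ≤ Subgroup.normalizer (T : Set Ω)) :
    G ≤ Subgroup.normalizer (topCore p T : Set Ω) := by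
  intro g hg
  haveI := finite_of_le (topCore_le (p := p) (T := T))
  have hJ := normalizer_le_normalizer_jEA (p := p) T (hG hg)
  refine mem_normalizer_of_conj_mem_finite fun x hx => ?_
  suffices topCore p T ≤ (topCore p T).comap (MulAut.conj g).toMonoidHom from this hx
  refine sup_le (fun u hu => Subgroup.mem_sup_left ((Subgroup.mem_normalizer_iff.1 hJ u).1 hu))
    fun u hu => Subgroup.mem_sup_right ⟨(Subgroup.mem_normalizer_iff.1 (hG hg) u).1 hu.1,
      Subgroup.mem_centralizer_iff.2 fun r hr => ?_⟩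
  have hr' : g⁻¹ * r * g ∈ jEA p T := by
    simpa using (Subgroup.mem_normalizer_iff.1 (Subgroup.inv_mem _ hJ) r).1 hr
  have hc := Subgroup.mem_centralizer_iff.1 hu.2 _ hr'
  calc r * (g * u * g⁻¹) = g * (g⁻¹ * r * g * u) * g⁻¹ := by group
    _ = g * u * g⁻¹ * r := by rw [hc]; group

theorem fullyNormalized_topCore : E.IsFullyNormalized (topCore p T) := by
  refine ⟨topCore_le, fun Q _ => ?_⟩
  haveI : Finite (normalizerIn T (topCore p T)) := finite_of_le (normalizerIn_le _ _)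
  exact Subgroup.card_le_of_le ((normalizerIn_le T Q).trans (le_inf le_rfl (le_normalizer_topCore Subgroup.le_normalizer)))

/-! ### A subgroup with no quadratic element outside -/

/-- Without quadratic elements outside `P`, the normalizer has the same data. -/
theorem no_quad {P N : Subgroup Ω} (hN : IsPGroup p N) [Finite N] (hPN : P ≤ N)
    (hnorm : N ≤ Subgroup.normalizer (P : Set Ω)) (hno : ∀ t ∈ N, QuadIn p P t → t ∈ P) :
    dEA p N = dEA p P ∧ jEA p N = jEA p P ∧ centralizerIn N (jEA p P) ≤ P := by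
  haveI := finite_of_le hPN
  set V := ((powMonoidHom p : Subgroup.center P →* Subgroup.center P).ker).map
    (P.subtype.comp (Subgroup.center P).subtype) with hV
  have hVmem : ∀ v ∈ V, v ∈ P ∧ v ^ p = 1 ∧ ∀ u ∈ P, u * v = v * u := by
    rintro _ ⟨v, hv, rfl⟩
    refine ⟨(v : P).2, ?_, fun u hu => congrArg Subtype.val (Subgroup.mem_center_iff.1 v.2 ⟨u, hu⟩)⟩
    have h0 : v ^ p = 1 := hv
    rw [← map_pow, h0, map_one]
  have hVP : V ≤ P := fun v hv => (hVmem v hv).1
  have hVEA : IsEA p V := ⟨fun a ha b hb => ((hVmem b hb).2.2 a (hVP ha)), fun a ha => (hVmem a ha).2.1⟩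
  have hVn : N ≤ Subgroup.normalizer (V : Set Ω) := by
    intro g hg
    haveI := finite_of_le hVP
    refine mem_normalizer_of_conj_mem_finite ?_
    rintro _ ⟨v, hv, rfl⟩
    have hgv : g * ((v : P) : Ω) * g⁻¹ ∈ P := (Subgroup.mem_normalizer_iff.1 (hnorm hg) _).1 (v : P).2
    refine ⟨⟨⟨_, hgv⟩, Subgroup.mem_center_iff.2 fun u => Subtype.ext ?_⟩, ?_, rfl⟩
    · have hu' : g⁻¹ * (u : Ω) * g ∈ P := by
        simpa using (Subgroup.mem_normalizer_iff.1 (Subgroup.inv_mem _ (hnorm hg)) (u : Ω)).1 u.2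
      have hc := congrArg Subtype.val (Subgroup.mem_center_iff.1 v.2 ⟨_, hu'⟩)
      simp only [Subgroup.coe_mul] at hc
      show (u : Ω) * (g * ((v : P) : Ω) * g⁻¹) = g * ((v : P) : Ω) * g⁻¹ * u
      calc (u : Ω) * (g * ((v : P) : Ω) * g⁻¹) = g * (g⁻¹ * u * g * ((v : P) : Ω)) * g⁻¹ := by group
        _ = g * ((v : P) : Ω) * g⁻¹ * u := by rw [hc]; group
    · refine Subtype.ext (Subtype.ext ?_)
      show (g * ((v : P) : Ω) * g⁻¹) ^ p = 1
      rw [conj_pow, show ((v : P) : Ω) ^ p = 1 from (hVmem _ ⟨v, hv, rfl⟩).2.1, mul_one, mul_inv_cancel]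
  have hall : ∀ B, B ≤ N → IsEA p B → Nat.card B = dEA p N → B ≤ P := by
    by_contra h
    simp only [not_forall] at h
    obtain ⟨B, h1, h2, h3, h4⟩ := h
    obtain ⟨B', hB'N, -, -, hB'P, hq⟩ := exists_quadratic hN (hVP.trans hPN) hVEA hVn
      (fun u hu v hv => (hVmem v hv).2.2 u hu) ⟨B, h1, h2, h3, h4⟩
    refine hB'P fun b hb => hno b (hB'N hb) fun v hv => ?_
    exact hq b hb _ ⟨v, hv, rfl⟩
  obtain ⟨A, hA, hEA, hc⟩ := exists_card_dEA (p := p) N
  have hd : dEA p N = dEA p P := le_antisymm (hc ▸ card_le_dEA (hall A hA hEA hc) hEA) (dEA_mono hPN)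
  have hj : jEA p N = jEA p P := le_antisymm
    (sSup_le fun B hB => le_jEA (hall B hB.1 hB.2.1 hB.2.2) hB.2.1 (by rw [hB.2.2, hd]))
    (jEA_mono hPN hd.symm)
  refine ⟨hd, hj, fun t ht => hno t ht.1 (quadIn_of_commutes fun v hv => ?_)⟩
  refine (Subgroup.mem_centralizer_iff.1 ht.2 _ ?_).symm
  refine le_jEA (hall A hA hEA hc) hEA (by rw [hc, hd]) (mem_of_max (hall A hA hEA hc) hEA (by rw [hc, hd])
    (v : P).2 ?_ fun a ha => (congrArg Subtype.val (Subgroup.mem_center_iff.1 v.2 ⟨a, hall A hA hEA hc ha⟩)).symm)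
  exact congrArg (fun u : Subgroup.center P => ((u : P) : Ω)) hv

/-- If the centralizer of `J(P)` in the normalizer lies in `P`, the whole centralizer does. -/
theorem cent_le (hT : IsPGroup p T) {P : Subgroup Ω} (hPT : P ≤ T)
    (h : centralizerIn (normalizerIn T P) (jEA p P) ≤ P) : centralizerIn T (jEA p P) ≤ P := by
  haveI := finite_of_le hPT
  set C := centralizerIn T (jEA p P)
  haveI : Finite C := finite_of_le (centralizerIn_le _ _)
  have hPC : P ≤ Subgroup.normalizer (C : Set Ω) := fun u hu => by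
    have hJ := normalizer_le_normalizer_jEA (p := p) P (Subgroup.le_normalizer hu)
    refine mem_normalizer_of_conj_mem_finite fun c hc => ⟨T.mul_mem (T.mul_mem (hPT hu) hc.1) (T.inv_mem (hPT hu)),
      Subgroup.mem_centralizer_iff.2 fun r hr => ?_⟩
    have hr' : u⁻¹ * r * u ∈ jEA p P := by
      simpa using (Subgroup.mem_normalizer_iff.1 (Subgroup.inv_mem _ hJ) r).1 hr
    have hc' := Subgroup.mem_centralizer_iff.1 hc.2 _ hr'
    calc r * (u * c * u⁻¹) = u * (u⁻¹ * r * u * c) * u⁻¹ := by group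
      _ = u * c * u⁻¹ * r := by rw [hc']; group
  by_contra hCP
  have hU : P ⊔ C ≤ T := sup_le hPT (centralizerIn_le _ _)
  haveI := finite_of_le hU
  have hlt : P < P ⊔ C := lt_of_le_of_ne le_sup_left fun he => hCP (le_of_le_of_eq le_sup_right he.symm)
  obtain ⟨n, hn, hnP⟩ := SetLike.exists_of_lt (lt_normalizerIn (S := P ⊔ C) (hT.to_le hU) hlt)
  obtain ⟨hnU, hnN⟩ := hn
  replace hnU : n ∈ ((P ⊔ C : Subgroup Ω) : Set Ω) := hnU
  rw [Subgroup.coe_mul_of_left_le_normalizer_right _ _ hPC] at hnU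
  obtain ⟨u, hu, c, hc, rfl⟩ := hnU
  refine hnP (P.mul_mem hu (h ⟨⟨hc.1, ?_⟩, hc.2⟩))
  have := Subgroup.mul_mem _ (Subgroup.inv_mem _ (Subgroup.le_normalizer hu)) hnN
  rwa [inv_mul_cancel_left] at this

/-- A fully normalized subgroup with no quadratic element outside contains a core. -/
theorem core_of_no_quad (hT : IsPGroup p T) (hEsat : E.IsSaturated p) {P : Subgroup Ω}
    (hP : E.IsFullyNormalized P) (hno : ∀ t ∈ normalizerIn T P, QuadIn p P t → t ∈ P) :
    jEA p P ⊔ centralizerIn T (jEA p P) ≤ P ∧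
      IsCore p E (jEA p P ⊔ centralizerIn T (jEA p P)) ∧
      key p (Nat.card T) (jEA p P ⊔ centralizerIn T (jEA p P)) = key p (Nat.card T) P := by
  have hPT := hP.1
  haveI := finite_of_le hPT
  haveI : Finite (normalizerIn T P) := finite_of_le (normalizerIn_le _ _)
  obtain ⟨-, -, hCN⟩ := no_quad (hT.to_le (normalizerIn_le _ _)) (le_normalizerIn hPT) inf_le_right hno
  have hC := cent_le hT hPT hCN
  set R := jEA p P ⊔ centralizerIn T (jEA p P)
  have hRP : R ≤ P := sup_le (jEA_le P) hC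
  haveI := finite_of_le (hRP.trans hPT)
  obtain ⟨A, hA, hEA, hc⟩ := exists_card_dEA (p := p) P
  have hJR : jEA p P ≤ R := le_sup_left
  have hd : dEA p R = dEA p P := le_antisymm (dEA_mono hRP)
    (hc ▸ card_le_dEA ((le_jEA hA hEA hc.ge).trans hJR) hEA)
  have hj : jEA p R = jEA p P := le_antisymm (jEA_mono hRP hd) (sSup_le fun B hB =>
    le_jEA ((le_jEA hB.1 hB.2.1 hB.2.2.ge).trans hJR) hB.2.1 (by rw [hB.2.2, hd]))
  refine ⟨hRP, ⟨by rw [hj], ?_⟩, by unfold key; rw [hd, hj]⟩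
  rw [hj]
  -- `J(P)` is fully centralized
  have hYT := (jEA_le (p := p) P).trans hPT
  obtain ⟨Y0, hconj, hY0⟩ := exists_fullyNormalized E hYT
  obtain ⟨χ, hχ, -, hχY⟩ := exists_normalizer_map_fullyNormalized hT hEsat hY0 hconj
  have hN1 : normalizerIn T P ≤ normalizerIn T (jEA p P) :=
    le_inf (normalizerIn_le _ _) (inf_le_right.trans (normalizer_le_normalizer_jEA P))
  have hPN : P ≤ normalizerIn T (jEA p P) := (le_normalizerIn hPT).trans hN1
  set χP := χ.comp (Subgroup.inclusion hPN) with hχP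
  set P0 := χP.range with hP0
  have hP0T : P0 ≤ T := range_le E (restrict_mem E hχ hPN)
  haveI : Finite P0 := finite_of_le hP0T
  have hY0eq : jEA p P0 = Y0 := by
    rw [(dEA_jEA_range (p := p) (E.injective_of_mem (restrict_mem E hχ hPN))).2, ← hχY,
      ← range_restrict χ (le_normalizerIn hYT), ← range_restrict χP (jEA_le P)]
    rfl
  have himg : ((normalizerIn T P).subgroupOf (normalizerIn T (jEA p P))).map χ = normalizerIn T P0 := by
    haveI : Finite (normalizerIn T P0) := finite_of_le (normalizerIn_le _ _)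
    refine Subgroup.eq_of_le_of_card_ge ?_ ?_
    · rintro _ ⟨u, hu, rfl⟩
      exact ⟨hom_apply_mem E hχ u, apply_mem_normalizer χ hPN rfl u hu.2⟩
    · rw [card_map_of_le (E.injective_of_mem hχ) hN1]
      exact hP.2 P0 ⟨_, restrict_mem E hχ hPN, rfl⟩
  have hC0 : centralizerIn T Y0 ≤ P0 := by
    rw [← hY0eq]
    refine cent_le hT hP0T fun x hx => ?_
    obtain ⟨hxN, hxC⟩ := hx
    rw [← himg] at hxN
    obtain ⟨u, hu, rfl⟩ := hxN
    refine ⟨⟨u, hCN ⟨hu, Subgroup.mem_centralizer_iff.2 fun r hr => ?_⟩⟩, rfl⟩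
    have hm : χ ⟨r, le_normalizerIn hYT hr⟩ ∈ jEA p P0 := by
      rw [hY0eq, ← hχY]; exact ⟨_, hr, rfl⟩
    have := Subgroup.mem_centralizer_iff.1 hxC _ hm
    rw [← map_mul, ← map_mul] at this
    exact congrArg Subtype.val (E.injective_of_mem hχ this)
  have hsub : centralizerIn T Y0 ≤ ((centralizerIn T (jEA p P)).subgroupOf P).map χP := by
    intro x hx
    obtain ⟨u, rfl⟩ := hC0 hx
    refine ⟨u, ⟨hPT u.2, Subgroup.mem_centralizer_iff.2 fun r hr => ?_⟩, rfl⟩
    have hm : χ ⟨r, le_normalizerIn hYT hr⟩ ∈ Y0 := by rw [← hχY]; exact ⟨_, hr, rfl⟩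
    have := Subgroup.mem_centralizer_iff.1 hx.2 _ hm
    rw [show χP u = χ (Subgroup.inclusion hPN u) from rfl, ← map_mul, ← map_mul] at this
    exact congrArg Subtype.val (E.injective_of_mem hχ this)
  haveI : Finite (((centralizerIn T (jEA p P)).subgroupOf P).map χP) := finite_of_le
    (show ((centralizerIn T (jEA p P)).subgroupOf P).map χP ≤ T by
      rintro _ ⟨u, -, rfl⟩; exact hom_apply_mem E (restrict_mem E hχ hPN) u)
  have hcard := Subgroup.card_le_of_le hsub
  rw [card_map_of_le (E.injective_of_mem (restrict_mem E hχ hPN)) hC] at hcard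
  exact ⟨hYT, fun Q hQ => ((fullyNormalized_imp hT hEsat hY0).1.2 Q
    (isConj_trans (isConj_symm hconj) hQ)).trans hcard⟩

end Cfsg.Agent.Lim1
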