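import Cfsg.Agent.Lib.Fusion.FocCentralizerMain

/-!
# Extensions of automorphisms to an element centralizing `T`

`Ext F R y α z`: some map of the system on `⟨R, y⟩` agrees with `α` on `R` and sends `y` to `y z`,
with `z` in the centre of `R`.
-/

set_option autoImplicit false
set_option linter.unusedSectionVars false
set_option linter.style.haveILetI false

namespace Cfsg.Agent.Lim1

open Cfsg Cfsg.FusionSystem Cfsg.Agent.FusionSys
open scoped IsMulCommutative

variable {Ω : Type*} [Group Ω] {S T : Subgroup Ω}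

/-- The action of the automorphisms of `R` on its centre. -/
def zAct (R : Subgroup Ω) : MulAut R →* MulAut (Subgroup.center R) where
  toFun α := Subgroup.centerCongr α
  map_one' := MulEquiv.ext fun _ => Subtype.ext rfl
  map_mul' _ _ := MulEquiv.ext fun _ => Subtype.ext rfl

@[simp] theorem zAct_coe (R : Subgroup Ω) (α : MulAut R) (z : Subgroup.center R) :
    ((zAct R α z : Subgroup.center R) : R) = α (z : R) := rfl

/-- Some map on `⟨R, y⟩` agrees with `α` and sends `y` to `y z`. -/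
def Ext (F : FusionSystem S) (R : Subgroup Ω) (y : Ω) (α : MulAut R) (z : Subgroup.center R) : Prop :=
  ∃ ψ ∈ F.Hom (R ⊔ Subgroup.zpowers y), (∀ r : R, ψ (Subgroup.inclusion le_sup_left r) = (α r : R)) ∧
    ψ ⟨y, Subgroup.mem_sup_right (Subgroup.mem_zpowers y)⟩ = y * ((z : R) : Ω)

variable {F : FusionSystem S} {R : Subgroup Ω} {y : Ω}

theorem dom_le (hR : R ≤ S) (hy : y ∈ S) : R ⊔ Subgroup.zpowers y ≤ S := sup_le hR (Subgroup.zpowers_le.2 hy)

theorem Ext.one (hR : R ≤ S) (hy : y ∈ S) : Ext F R y 1 1 :=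
  ⟨_, subtype_mem F (dom_le hR hy), fun _ => rfl, by simp⟩

theorem Ext.congr {α : MulAut R} {z z' : Subgroup.center R} (h : Ext F R y α z) (e : z = z') : Ext F R y α z' :=
  e ▸ h

theorem zpow_right (ψ : ↥(R ⊔ Subgroup.zpowers y) →* Ω) (u : Subgroup.zpowers y) :
    ∃ k : ℤ, (u : Ω) = y ^ k ∧ ψ (Subgroup.inclusion le_sup_right u) =
      ψ ⟨y, Subgroup.mem_sup_right (Subgroup.mem_zpowers y)⟩ ^ k := by
  obtain ⟨k, hk⟩ := Subgroup.mem_zpowers_iff.1 u.2
  refine ⟨k, hk.symm, ?_⟩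
  rw [← map_zpow]
  exact congrArg ψ (Subtype.ext (by simp [hk]))

theorem Ext.range_le {α : MulAut R} {z : Subgroup.center R} {ψ : ↥(R ⊔ Subgroup.zpowers y) →* Ω}
    (h1 : ∀ r : R, ψ (Subgroup.inclusion le_sup_left r) = (α r : R))
    (h2 : ψ ⟨y, Subgroup.mem_sup_right (Subgroup.mem_zpowers y)⟩ = y * ((z : R) : Ω))
    (u : ↥(R ⊔ Subgroup.zpowers y)) : ψ u ∈ R ⊔ Subgroup.zpowers y := by
  refine apply_mem_of_sup ψ (fun r => ?_) (fun v => ?_) u
  · rw [h1]; exact Subgroup.mem_sup_left (α r).2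
  · obtain ⟨k, -, hk⟩ := zpow_right ψ v
    rw [hk, h2]
    exact Subgroup.zpow_mem _ (Subgroup.mul_mem _ (Subgroup.mem_sup_right (Subgroup.mem_zpowers y))
      (Subgroup.mem_sup_left (z : R).2)) k

theorem Ext.mul {α β : MulAut R} {z w : Subgroup.center R} (h : Ext F R y α z) (h' : Ext F R y β w) :
    Ext F R y (α * β) (z * zAct R α w) := by
  obtain ⟨σ, hσ, s1, s2⟩ := h
  obtain ⟨τ, hτ, t1, t2⟩ := h'
  obtain ⟨χ, hχ, he⟩ := comp_hom_mem F hτ hσ (Ext.range_le t1 t2)
  refine ⟨χ, hχ, fun r => ?_, ?_⟩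
  · rw [he, ← show σ (Subgroup.inclusion le_sup_left (β r)) = ((α * β) r : R) from s1 (β r)]
    exact congrArg σ (Subtype.ext (t1 r))
  · rw [he]
    have e : (⟨τ ⟨y, Subgroup.mem_sup_right (Subgroup.mem_zpowers y)⟩, Ext.range_le t1 t2 _⟩ :
        ↥(R ⊔ Subgroup.zpowers y)) =
        ⟨y, Subgroup.mem_sup_right (Subgroup.mem_zpowers y)⟩ * Subgroup.inclusion le_sup_left (w : R) :=
      Subtype.ext t2
    rw [e, map_mul, s2, s1, mul_assoc]
    simp

theorem Ext.exists_pow (hR : R ≤ S) (hy : y ∈ S) {α : MulAut R} (h : ∃ z, Ext F R y α z) (n : ℕ) :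
    ∃ z, Ext F R y (α ^ n) z := by
  induction n with
  | zero => exact ⟨1, by rw [pow_zero]; exact Ext.one hR hy⟩
  | succ n ih =>
    obtain ⟨z, hz⟩ := ih
    obtain ⟨w, hw⟩ := h
    exact ⟨_, (pow_succ α n).symm ▸ hz.mul hw⟩

/-- The automorphisms with an extension. -/
def extGroup [Finite S] (F : FusionSystem S) {R : Subgroup Ω} (hR : R ≤ S) {y : Ω} (hy : y ∈ S) :
    Subgroup (MulAut R) where
  carrier := {α | ∃ z, Ext F R y α z}
  one_mem' := ⟨1, Ext.one hR hy⟩
  mul_mem' := fun ⟨_, h⟩ ⟨_, h'⟩ => ⟨_, h.mul h'⟩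
  inv_mem' := by
    intro α h
    haveI := finite_of_le hR
    haveI : Finite (MulAut R) := Finite.of_injective _ DFunLike.coe_injective
    have : α⁻¹ = α ^ (orderOf α - 1) := by
      apply inv_eq_of_mul_eq_one_right
      rw [← pow_succ', Nat.sub_add_cancel (orderOf_pos α), pow_orderOf_eq_one]
    show ∃ z, Ext F R y α⁻¹ z
    rw [this]
    exact Ext.exists_pow hR hy h _

/-- The displacements of `y` under the maps fixing `R`. -/
def kerZ [Finite S] (F : FusionSystem S) {R : Subgroup Ω} (hR : R ≤ S) {y : Ω} (hy : y ∈ S) :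
    Subgroup (Subgroup.center R) where
  carrier := {z | Ext F R y 1 z}
  one_mem' := Ext.one hR hy
  mul_mem' := fun {a b} h h' => ((one_mul (1 : MulAut R)) ▸ h.mul h' : Ext F R y 1 (a * zAct R 1 b)).congr
    (by rw [map_one]; rfl)
  inv_mem' := by
    intro z h
    haveI := finite_of_le hR
    have hpow : ∀ n : ℕ, Ext F R y 1 (z ^ n) := by
      intro n
      induction n with
      | zero => rw [pow_zero]; exact Ext.one hR hy
      | succ n ih =>
        exact ((one_mul (1 : MulAut R)) ▸ ih.mul h : Ext F R y 1 (z ^ n * zAct R 1 z)).congr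
          (by rw [map_one, pow_succ]; rfl)
    have : z⁻¹ = z ^ (orderOf z - 1) := by
      apply inv_eq_of_mul_eq_one_right
      rw [← pow_succ', Nat.sub_add_cancel (orderOf_pos z), pow_orderOf_eq_one]
    show Ext F R y 1 z⁻¹
    rw [this]
    exact hpow _

variable [Finite S]

theorem kerZ_invariant (hR : R ≤ S) (hy : y ∈ S) {α : MulAut R} (h : α ∈ extGroup F hR hy)
    {v : Subgroup.center R} (hv : v ∈ kerZ F hR hy) : zAct R α v ∈ kerZ F hR hy := by
  obtain ⟨z, hz⟩ := h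
  obtain ⟨w, hw⟩ := (extGroup F hR hy).inv_mem ⟨z, hz⟩
  have h0 : z * zAct R α w ∈ kerZ F hR hy :=
    (mul_inv_cancel α ▸ hz.mul hw : Ext F R y 1 (z * zAct R α w))
  have h1 : z * zAct R α v * zAct R α w ∈ kerZ F hR hy := by
    have := (hz.mul hv).mul hw
    show Ext F R y 1 _
    simpa using this
  have := Subgroup.mul_mem _ h1 (Subgroup.inv_mem _ h0)
  rwa [mul_right_comm z (zAct R α v), mul_inv_cancel_comm] at this

theorem Ext.div_mem (hR : R ≤ S) (hy : y ∈ S) {α : MulAut R} {z z' : Subgroup.center R} (h : Ext F R y α z)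
    (h' : Ext F R y α z') : z / z' ∈ kerZ F hR hy := by
  obtain ⟨w, hw⟩ := (extGroup F hR hy).inv_mem ⟨z, h⟩
  have h0 : z * zAct R α w ∈ kerZ F hR hy := (mul_inv_cancel α ▸ h.mul hw : Ext F R y 1 (z * zAct R α w))
  have h1 : z' * zAct R α w ∈ kerZ F hR hy := (mul_inv_cancel α ▸ h'.mul hw : Ext F R y 1 (z' * zAct R α w))
  have := Subgroup.div_mem _ h0 h1
  rwa [mul_div_mul_right_eq_div] at this

theorem Ext.adjust (hR : R ≤ S) (hy : y ∈ S) {α : MulAut R} {z z' : Subgroup.center R} (h : Ext F R y α z)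
    (h' : z' / z ∈ kerZ F hR hy) : Ext F R y α z' := by
  have := (show Ext F R y 1 (z' / z) from h').mul h
  simpa using this

theorem Ext.one_of_mem (hR : R ≤ S) (hy : y ∈ S) {α : MulAut R} {z : Subgroup.center R} (h : Ext F R y α z)
    (hz : z ∈ kerZ F hR hy) : Ext F R y α 1 :=
  h.adjust hR hy (by rw [one_div]; exact Subgroup.inv_mem _ hz)

/-- Conjugation by an element of `S` commuting with `y`. -/
theorem Ext.conj (hR : R ≤ S) (hy : y ∈ S) {t : Ω} (ht : t ∈ S) (hty : t * y = y * t) {α : MulAut R}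
    (hα : ∀ r : R, ((α r : R) : Ω) = t * (r : Ω) * t⁻¹) : Ext F R y α 1 :=
  ⟨_, F.conj_mem (dom_le hR hy) ht, fun r => (hα r).symm, by simp [hty]⟩

/-- Restriction to a smaller subgroup. -/
theorem Ext.restrict {R' : Subgroup Ω} (hle : R' ≤ R) {α : MulAut R} {z : Subgroup.center R}
    (h : Ext F R y α z) {β : MulAut R'} (hβ : ∀ r : R', ((β r : R') : Ω) = (α ⟨r, hle r.2⟩ : R))
    (z' : Subgroup.center R') (hz : ((z' : R') : Ω) = ((z : R) : Ω)) : Ext F R' y β z' := by
  obtain ⟨ψ, hψ, h1, h2⟩ := h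
  refine ⟨_, restrict_mem F hψ (sup_le (hle.trans le_sup_left) le_sup_right), fun r => ?_, ?_⟩
  · rw [hβ, ← h1]; rfl
  · rw [hz]; exact h2

/-- Moving `y` by an element of the centre. -/
theorem Ext.translate (hR : R ≤ S) (hy : y ∈ S) (b : Subgroup.center R) {α : MulAut R} {z : Subgroup.center R}
    (h : Ext F R y α z) : Ext F R (y * ((b : R) : Ω)) α (z * (zAct R α b / b)) := by
  obtain ⟨ψ, hψ, h1, h2⟩ := h
  have hle : R ⊔ Subgroup.zpowers (y * ((b : R) : Ω)) ≤ R ⊔ Subgroup.zpowers y :=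
    sup_le le_sup_left (Subgroup.zpowers_le.2 (Subgroup.mul_mem _
      (Subgroup.mem_sup_right (Subgroup.mem_zpowers y)) (Subgroup.mem_sup_left (b : R).2)))
  refine ⟨_, restrict_mem F hψ hle, fun r => h1 r, ?_⟩
  show ψ _ = _
  rw [show Subgroup.inclusion hle ⟨y * ((b : R) : Ω), _⟩ =
    ⟨y, Subgroup.mem_sup_right (Subgroup.mem_zpowers y)⟩ * Subgroup.inclusion le_sup_left (b : R) from Subtype.ext rfl,
    map_mul, h2, h1, mul_assoc, mul_assoc]
  refine congrArg (y * ·) ?_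
  have key : b * (z * (zAct R α b / b)) = z * zAct R α b := by
    rw [mul_left_comm, mul_div_cancel]
  exact (congrArg (fun u : Subgroup.center R => ((u : R) : Ω)) key).symm

/-- The map is fixed by `y` in the sense of the centralizer system. -/
theorem Ext.good (hTc : T ≤ centralizerIn S (Subgroup.zpowers y)) (hRT : R ≤ T) {α : MulAut R}
    (h : Ext F R y α 1) : R.subtype.comp α.toMonoidHom ∈ F.centralizerHom (Subgroup.zpowers y) R := by
  obtain ⟨ψ, hψ, h1, h2⟩ := h
  refine ⟨hom_congr F (restrict_mem F hψ le_sup_left) fun r => (h1 r).symm, hRT.trans hTc,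
    fun r => hTc (hRT (α r).2), ψ, hψ, fun r => h1 r, fun v => ?_⟩
  obtain ⟨k, hk, he⟩ := zpow_right ψ v
  rw [he, h2, hk]
  simp

theorem Ext.of_good {α : MulAut R}
    (h : R.subtype.comp α.toMonoidHom ∈ F.centralizerHom (Subgroup.zpowers y) R) : Ext F R y α 1 := by
  obtain ⟨-, -, -, ψ, hψ, h1, h2⟩ := h
  refine ⟨ψ, hψ, fun r => h1 r, ?_⟩
  have := h2 ⟨y, Subgroup.mem_zpowers y⟩
  exact this.trans (by simp)

end Cfsg.Agent.Lim1
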