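import Cfsg.Agent.Lib.Lim1.Ext

/-!
# Lifts of the automorphisms generated by conjugates of the inner ones

The automorphisms generated by the conjugates of those induced by `T` lift to `R C_S(R)`; the lifts give
extensions to any element centralizing `T`, and they move the displacements of `C_F(R)` into fixed points.
-/

set_option autoImplicit false
set_option linter.unusedSectionVars false
set_option linter.style.haveILetI false

namespace Cfsg.Agent.Lim1

open Cfsg Cfsg.FusionSystem Cfsg.Agent.FusionSys Cfsg.Agent.FusionSys.FocCent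
open scoped IsMulCommutative

variable {Ω : Type*} [Group Ω] {S T : Subgroup Ω}

/-- The subgroup of `Aut_E(R)` generated by the conjugates of the automorphisms induced by `T`. -/
def lGroup (E : FusionSystem T) (R : Subgroup Ω) : Subgroup (MulAut R) :=
  Subgroup.closure {β | ∃ a ∈ E.autGroup R, ∃ v ∈ autInducedBy T R, β = a * v * a⁻¹}

theorem autInducedBy_le_lGroup (E : FusionSystem T) (R : Subgroup Ω) : autInducedBy T R ≤ lGroup E R :=
  fun v hv => Subgroup.subset_closure ⟨1, Subgroup.one_mem _, v, hv, by simp⟩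

theorem lGroup_le (E : FusionSystem T) {R : Subgroup Ω} (hRT : R ≤ T) : lGroup E R ≤ E.autGroup R :=
  (Subgroup.closure_le _).2 (by
    rintro _ ⟨a, ha, v, hv, rfl⟩
    exact Subgroup.mul_mem _ (Subgroup.mul_mem _ ha (autInducedBy_le_autGroup E hRT hv)) (Subgroup.inv_mem _ ha))

theorem lGroup_conj (E : FusionSystem T) {R : Subgroup Ω} {a l : MulAut R} (ha : a ∈ E.autGroup R)
    (hl : l ∈ lGroup E R) : a * l * a⁻¹ ∈ lGroup E R := by
  suffices lGroup E R ≤ (lGroup E R).comap (MulAut.conj a).toMonoidHom from this hl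
  refine (Subgroup.closure_le _).2 ?_
  rintro _ ⟨b, hb, v, hv, rfl⟩
  exact Subgroup.subset_closure ⟨a * b, Subgroup.mul_mem _ ha hb, v, hv, by
    simp only [MulEquiv.coe_toMonoidHom, MulAut.conj_apply]; group⟩

variable [Finite S] {p : ℕ} [hp : Fact p.Prime]

/-- Lifts, carried along a map on the normalizer. -/
theorem exists_lift (hS : IsPGroup p S) {F : FusionSystem S} (hF : F.IsSaturated p)
    (hTc : F.StronglyClosed T) {E : FusionSystem T} (hEF : E.IsSubsystemOf F)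
    {R R' : Subgroup Ω} (hRT : R ≤ T) {φ : normalizerIn S R →* Ω} (hφ : φ ∈ F.Hom (normalizerIn S R))
    (hφR : (R.subgroupOf (normalizerIn S R)).map φ = R') (hR' : F.IsFullyCentralized R')
    (hRc : T ⊓ Subgroup.centralizer (R' : Set Ω) ≤ R')
    (e : R ≃* R') (he : ∀ (r : R) (hr : (r : Ω) ∈ normalizerIn S R), ((e r : R') : Ω) = φ ⟨r, hr⟩)
    {l : MulAut R} (hl : l ∈ lGroup E R) :
    ∃ h, IsLift F R' h ∧ Rel (le_rc R') h (MulAut.congr e l) := by
  have hTS := hTc.1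
  have hRS : R ≤ S := hRT.trans hTS
  have hR'S := hR'.1
  have hRN : R ≤ (normalizerIn S R) := le_normalizerIn hRS
  have hres : (φ.comp (Subgroup.inclusion hRN)).range = R' := extend_restrict_range hRN hφR
  haveI := finite_of_le hRS
  haveI := finite_of_le hR'S
  haveI := finite_of_le (rc_le (S := S) hR'S)
  have heF : R'.subtype.comp e.toMonoidHom ∈ F.Hom R :=
    hom_congr F (restrict_mem F hφ hRN) fun r => he r (hRN r.2)
  have hr' : (R'.subtype.comp e.toMonoidHom).range = R' := by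
    ext z
    exact ⟨by rintro ⟨r, rfl⟩; exact (e r).2, fun hz => ⟨e.symm ⟨z, hz⟩, by simp⟩⟩
  have heF' : R.subtype.comp e.symm.toMonoidHom ∈ F.Hom R' := by
    have h := mapEquiv_symm_mem F heF hr'
    have heq : mapEquiv F heF hr' = e := MulEquiv.ext fun r => Subtype.ext rfl
    rwa [heq] at h
  obtain ⟨ρ, hρ⟩ := exists_restriction F hR'S
  set Lf := ρ.range.comap (MulAut.congr e).toMonoidHom with hLf
  have hmem : ∀ α : MulAut R, (∃ h, IsLift F R' h ∧ Rel (le_rc R') h (MulAut.congr e α)) → α ∈ Lf := by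
    rintro α ⟨h, hh, hhα⟩
    refine ⟨⟨h, hh⟩, ?_⟩
    exact MulEquiv.ext fun x => Subgroup.inclusion_injective (le_rc (S := S) R')
      ((hρ ⟨h, hh⟩ x).symm.trans (hhα x))
  have hlift : ∀ α ∈ Lf, ∃ h, IsLift F R' h ∧ Rel (le_rc R') h (MulAut.congr e α) := by
    rintro α ⟨h, hh⟩
    exact ⟨h, h.2, (show ρ h = MulAut.congr e α from hh) ▸ hρ h⟩
  have hV : autInducedBy T R ≤ Lf := by
    intro v hv
    refine hmem v ?_
    obtain ⟨t, htT, htv⟩ := (mem_autInducedBy_iff _).1 hv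
    have htN : t ∈ (normalizerIn S R) := ⟨hTS htT, mem_normalizer_of_autInduced htv⟩
    set t' := φ ⟨t, htN⟩ with ht'def
    have ht'S : t' ∈ S := hom_apply_mem F hφ _
    have ht'T : t' ∈ T := stronglyClosed_apply_mem hTc hφ _ htT
    have ht'R : t' ∈ Subgroup.normalizer (R' : Set Ω) := apply_mem_normalizer φ hRN hres _ htN.2
    have ht'C : ∀ x ∈ centralizerIn S R', t' * x * t'⁻¹ ∈ centralizerIn S R' := fun x hx =>
      ⟨S.mul_mem (S.mul_mem ht'S hx.1) (S.inv_mem ht'S), Subgroup.mem_centralizer_iff.2 fun r hr => by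
        have hr' : t'⁻¹ * r * t' ∈ R' := by
          simpa using (Subgroup.mem_normalizer_iff.1 (Subgroup.inv_mem _ ht'R) r).1 hr
        have hc := Subgroup.mem_centralizer_iff.1 hx.2 _ hr'
        calc r * (t' * x * t'⁻¹) = t' * (t'⁻¹ * r * t' * x) * t'⁻¹ := by group
          _ = t' * x * t'⁻¹ * r := by rw [hc]; group⟩
    have ht'Q : t' ∈ Subgroup.normalizer (rc S R' : Set Ω) := by
      refine mem_normalizer_of_conj_mem_finite fun x hx => ?_
      have hle : rc S R' ≤ (rc S R').comap (MulAut.conj t').toMonoidHom := sup_le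
        (fun r hr => le_rc R' ((Subgroup.mem_normalizer_iff.1 ht'R r).1 hr))
        fun r hr => cent_le_rc R' (ht'C r hr)
      exact hle hx
    obtain ⟨c, hc, hce⟩ := exists_conjAut ht'S ht'Q
    refine ⟨c, ⟨autInducedBy_le_autGroup F (rc_le hR'S) hc, fun x hx => ?_, fun x hx => ?_⟩, ?_⟩
    · rw [hce]; exact (Subgroup.mem_normalizer_iff.1 ht'R x).1 hx
    · rw [hce]
      have h1 : (x : Ω)⁻¹ * (t' * x * t'⁻¹) ∈ R' := hRc ⟨by
        have := (Subgroup.mem_normalizer_iff.1 (stronglyClosed_le_normalizer hTc (S.inv_mem hx.1)) t').1 ht'T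
        rw [inv_inv] at this
        rw [show (x : Ω)⁻¹ * (t' * x * t'⁻¹) = (x : Ω)⁻¹ * t' * x * t'⁻¹ by group]
        exact T.mul_mem this (T.inv_mem ht'T),
        (Subgroup.mul_mem _ (Subgroup.inv_mem _ hx) (ht'C x hx)).2⟩
      exact ⟨h1, (Subgroup.mul_mem _ (Subgroup.inv_mem _ hx) (ht'C x hx)).2⟩
    · intro r
      obtain ⟨r₀, rfl⟩ := e.surjective r
      refine Subtype.ext ?_
      show ((c _ : rc S R') : Ω) = ((MulAut.congr e v (e r₀) : R') : Ω)
      rw [hce, congr_apply, e.symm_apply_apply, he _ (hRN (v r₀).2)]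
      show t' * (e r₀ : R') * t'⁻¹ = _
      rw [he _ (hRN r₀.2), ht'def, ← map_inv, ← map_mul, ← map_mul]
      exact congrArg φ (Subtype.ext (htv r₀).symm)
  have hnormal : ∀ a ∈ E.autGroup R, ∀ l ∈ Lf, a * l * a⁻¹ ∈ Lf := by
    intro a ha l hl
    refine hmem _ ?_
    obtain ⟨h, hh, hhl⟩ := hlift l hl
    have ha' := congr_mem_autGroup F e heF heF' (autGroup_mono hEF R ha)
    have hh0 := (equivHom_autGroup F hR'S).1 ha'
    obtain ⟨χ, hχ, hag⟩ := (fullyCentralized_receptive hS hF hR').2 R' _ hh0 (equivHom_range (MulAut.congr e a))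
    have hQle : rc S R' ≤ extender S R' (equivHom (MulAut.congr e a)) :=
      sup_le (le_extender F hh0) (centralizerIn_le_extender _)
    set χ₀ := χ.comp (Subgroup.inclusion hQle) with hχ0
    have hagr : ∀ r : R', χ₀ (Subgroup.inclusion (le_rc R') r) = ((MulAut.congr e a r : R') : Ω) :=
      fun r => hag r r.2 _
    have hχr : (χ₀.comp (Subgroup.inclusion (le_rc R'))).range = R' := by
      rw [show χ₀.comp (Subgroup.inclusion (le_rc R')) = equivHom (MulAut.congr e a) from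
        MonoidHom.ext hagr, equivHom_range]
    obtain ⟨b, hb, hbe⟩ := exists_aut_of_invariant F (restrict_mem F hχ hQle) fun x => apply_mem_of_sup χ₀
      (fun r => by
        show χ₀ (Subgroup.inclusion (le_rc (S := S) R') r) ∈ _
        rw [hagr]; exact le_rc R' (MulAut.congr e a r).2)
      (fun c => cent_le_rc R' ⟨hom_apply_mem F (restrict_mem F hχ hQle) _,
        apply_mem_centralizer χ₀ (le_rc R') hχr _ c.2.2⟩) x
    have hbR : Rel (le_rc R') b (MulAut.congr e a) := fun r => Subtype.ext ((hbe _).trans (hagr r))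
    exact ⟨_, hh.conj hR'S hb hbR, by
      rw [map_mul, map_mul, map_inv]
      exact (hbR.mul hhl).mul hbR.inv⟩
  refine hlift l ((Subgroup.closure_le _).2 ?_ hl)
  rintro _ ⟨a, ha, v, hv, rfl⟩
  exact hnormal a ha v (hV hv)

/-- The centre is carried along an isomorphism. -/
theorem e_symm_center {R R' : Subgroup Ω} (e : R ≃* R') {u : Ω} (hu : u ∈ zc R') :
    e.symm ⟨u, hu.1⟩ ∈ Subgroup.center R :=
  Subgroup.mem_center_iff.2 fun g => e.injective (by
    rw [map_mul, map_mul, e.apply_symm_apply]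
    exact Subtype.ext (Subgroup.mem_centralizer_iff.1 hu.2 _ (e g).2))

theorem center_mem_zc {R R' : Subgroup Ω} (e : R ≃* R') (z : Subgroup.center R) : ((e (z : R) : R') : Ω) ∈ zc R' :=
  ⟨(e _).2, Subgroup.mem_centralizer_iff.2 fun r hr => by
    have h := congrArg e (Subgroup.mem_center_iff.1 z.2 (e.symm ⟨r, hr⟩))
    rw [map_mul, map_mul, e.apply_symm_apply] at h
    exact congrArg Subtype.val h⟩

variable {F : FusionSystem S}

/-- A lift gives an extension. -/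
theorem ext_of_lift (hTc : F.StronglyClosed T) {R R' : Subgroup Ω} (hRT : R ≤ T)
    {φ : normalizerIn S R →* Ω} (hφ : φ ∈ F.Hom (normalizerIn S R))
    (hφR : (R.subgroupOf (normalizerIn S R)).map φ = R') (hR'S : R' ≤ S)
    (e : R ≃* R') (he : ∀ (r : R) (hr : (r : Ω) ∈ normalizerIn S R), ((e r : R') : Ω) = φ ⟨r, hr⟩)
    {y : Ω} (hy : y ∈ centralizerIn S T) (hyN : y ∈ normalizerIn S R)
    (hy' : φ ⟨y, hyN⟩ ∈ centralizerIn S R')
    {l : MulAut R} {h : MulAut (rc S R')} (hh : IsLift F R' h) (hl : Rel (le_rc R') h (MulAut.congr e l)) :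
    Ext F R y l ⟨e.symm ⟨disp h ⟨φ ⟨y, hyN⟩, cent_le_rc R' hy'⟩, (hh.2.2 _ hy').1⟩,
      e_symm_center e (hh.2.2 _ hy')⟩ := by
  have hRS : R ≤ S := hRT.trans hTc.1
  have hRN : R ≤ (normalizerIn S R) := le_normalizerIn hRS
  have hres : (φ.comp (Subgroup.inclusion hRN)).range = R' := extend_restrict_range hRN hφR
  haveI := finite_of_le hR'S
  haveI := finite_of_le (rc_le (S := S) hR'S)
  set Y := Subgroup.zpowers y
  have hYN : R ⊔ Y ≤ (normalizerIn S R) := sup_le hRN (Subgroup.zpowers_le.2 hyN)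
  set φY := φ.comp (Subgroup.inclusion hYN) with hφY
  have hQ2 : φY.range ≤ rc S R' := by
    rintro _ ⟨u, rfl⟩
    refine apply_mem_of_sup φY (fun v => le_rc R' (hres.le ⟨v, rfl⟩)) (fun v => ?_) u
    obtain ⟨k, hk⟩ := Subgroup.mem_zpowers_iff.1 v.2
    show φ _ ∈ _
    rw [show Subgroup.inclusion hYN (Subgroup.inclusion le_sup_right v) = (⟨y, hyN⟩ : (normalizerIn S R)) ^ k from
      Subtype.ext (by simp [hk]), map_zpow]
    exact Subgroup.zpow_mem _ (cent_le_rc R' hy') k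
  obtain ⟨χ, hχ, -, hχ1, -⟩ := exists_inv F (restrict_mem F hφ hYN)
  obtain ⟨σ, hσ, hσe⟩ := comp_hom_mem F (restrict_mem F hφ hYN)
    ((equivHom_autGroup F (rc_le hR'S)).1 hh.1) fun u => hQ2 ⟨u, rfl⟩
  have happ : ∀ q q' : rc S R', (q : Ω) = q' → ((h q : rc S R') : Ω) = (h q' : rc S R') :=
    fun q q' hq => by rw [Subtype.ext hq]
  have hval1 : ∀ r : R, σ (Subgroup.inclusion le_sup_left r) = φ ⟨(l r : R), hRN (l r).2⟩ := by
    intro r
    rw [hσe]
    show ((h _ : rc S R') : Ω) = _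
    refine Eq.trans (happ _ ⟨((e r : R') : Ω), le_rc R' (e r).2⟩ (he r (hRN r.2)).symm) ?_
    rw [hl.apply, congr_apply, e.symm_apply_apply, he _ (hRN (l r).2)]
  set z := e.symm ⟨disp h ⟨φ ⟨y, hyN⟩, cent_le_rc R' hy'⟩, (hh.2.2 _ hy').1⟩
  have hyz : y * (z : Ω) ∈ R ⊔ Y :=
    Subgroup.mul_mem _ (Subgroup.mem_sup_right (Subgroup.mem_zpowers y)) (Subgroup.mem_sup_left z.2)
  have hval2 : σ ⟨y, Subgroup.mem_sup_right (Subgroup.mem_zpowers y)⟩ = φ ⟨y * (z : Ω), hYN hyz⟩ := by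
    rw [hσe]
    show ((h _ : rc S R') : Ω) = _
    refine Eq.trans (happ _ ⟨φ ⟨y, hyN⟩, cent_le_rc R' hy'⟩ rfl) ?_
    rw [disp_spec, show (⟨y * (z : Ω), hYN hyz⟩ : normalizerIn S R) = ⟨y, hyN⟩ * ⟨z, hRN z.2⟩ from Subtype.ext rfl,
      map_mul, ← he z (hRN z.2), e.apply_symm_apply]
  have hσr : ∀ u, σ u ∈ φY.range := apply_mem_of_sup σ
    (fun r => by rw [hval1]; exact ⟨⟨(l r : R), Subgroup.mem_sup_left (l r).2⟩, rfl⟩)
    (fun v => by
      obtain ⟨k, -, hk⟩ := zpow_right σ v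
      rw [hk, hval2]
      exact Subgroup.zpow_mem _ (show φ ⟨_, hYN hyz⟩ ∈ φY.range from ⟨⟨_, hyz⟩, rfl⟩) k)
  obtain ⟨τ, hτ, hτe⟩ := comp_hom_mem F hσ hχ hσr
  refine ⟨τ, hτ, fun r => ?_, ?_⟩
  · rw [hτe]
    refine Eq.trans (congrArg χ (Subtype.ext (hval1 r) :
      _ = (⟨φY ⟨(l r : R), Subgroup.mem_sup_left (l r).2⟩, ⟨_, rfl⟩⟩ : φY.range))) ?_
    exact hχ1 ⟨(l r : R), Subgroup.mem_sup_left (l r).2⟩ ⟨_, rfl⟩
  · rw [hτe]
    refine Eq.trans (congrArg χ (Subtype.ext hval2 : _ = (⟨φY ⟨_, hyz⟩, ⟨_, rfl⟩⟩ : φY.range))) ?_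
    exact hχ1 ⟨_, hyz⟩ ⟨_, rfl⟩

/-- Every element of `lGroup` has an extension to `y`. -/
theorem exists_ext (hS : IsPGroup p S) (hF : F.IsSaturated p) (hTc : F.StronglyClosed T)
    {E : FusionSystem T} (hEF : E.IsSubsystemOf F) {R : Subgroup Ω} (hRT : R ≤ T)
    (hRc : ∀ R', F.IsConj R R' → T ⊓ Subgroup.centralizer (R' : Set Ω) ≤ R')
    {y : Ω} (hy : y ∈ centralizerIn S T) {l : MulAut R} (hl : l ∈ lGroup E R) : ∃ z, Ext F R y l z := by
  have hRS : R ≤ S := hRT.trans hTc.1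
  obtain ⟨R', hconj, hR'⟩ := exists_fullyNormalized F hRS
  obtain ⟨φ, hφ, -, hφR⟩ := exists_normalizer_map_fullyNormalized hS hF hR' hconj
  have hRN := le_normalizerIn hRS
  have hres := extend_restrict_range hRN hφR
  haveI := finite_of_le hR'.1
  obtain ⟨h, hh, hhl⟩ := exists_lift hS hF hTc hEF hRT hφ hφR (fullyNormalized_imp hS hF hR').1 (hRc R' hconj)
    (mapEquiv F (restrict_mem F hφ hRN) hres) (fun _ _ => rfl) hl
  have hyN : y ∈ normalizerIn S R := centralizerIn_le_normalizerIn S R ⟨hy.1, Subgroup.centralizer_le hRT hy.2⟩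
  have hy' : φ ⟨y, hyN⟩ ∈ centralizerIn S R' :=
    ⟨hom_apply_mem F hφ _, apply_mem_centralizer φ hRN hres _ (Subgroup.centralizer_le hRT hy.2)⟩
  exact ⟨_, ext_of_lift hTc hRT hφ hφR hR'.1 _ (fun _ _ => rfl) hy hyN hy' hh hhl⟩

/-- Displacements of maps fixing `R` are moved by the lifted automorphisms into fixed points. -/
theorem two_step (hS : IsPGroup p S) (hF : F.IsSaturated p) (hTc : F.StronglyClosed T)
    {E : FusionSystem T} (hEF : E.IsSubsystemOf F) {R : Subgroup Ω} (hRT : R ≤ T)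
    (hRc : ∀ R', F.IsConj R R' → T ⊓ Subgroup.centralizer (R' : Set Ω) ≤ R')
    {y : Ω} (hy : y ∈ centralizerIn S T) {z : Subgroup.center R} (hz : Ext F R y 1 z)
    {l₁ l₂ : MulAut R} (hl₁ : l₁ ∈ lGroup E R) (hl₂ : l₂ ∈ lGroup E R) :
    zAct R l₁ (z⁻¹ * zAct R l₂ z) = z⁻¹ * zAct R l₂ z := by
  have hRS : R ≤ S := hRT.trans hTc.1
  obtain ⟨R', hconj, hR'⟩ := exists_fullyNormalized F hRS
  obtain ⟨φ, hφ, -, hφR⟩ := exists_normalizer_map_fullyNormalized hS hF hR' hconj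
  have hRN := le_normalizerIn hRS
  have hres := extend_restrict_range hRN hφR
  haveI := finite_of_le hR'.1
  set e := mapEquiv F (restrict_mem F hφ hRN) hres
  have he : ∀ r : R, ((e r : R') : Ω) = φ ⟨r, hRN r.2⟩ := fun r => rfl
  have hfc := (fullyNormalized_imp hS hF hR').1
  obtain ⟨h₁, hh₁, hhl₁⟩ := exists_lift hS hF hTc hEF hRT hφ hφR hfc (hRc R' hconj) e (fun _ _ => rfl) hl₁
  obtain ⟨h₂, hh₂, hhl₂⟩ := exists_lift hS hF hTc hEF hRT hφ hφR hfc (hRc R' hconj) e (fun _ _ => rfl) hl₂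
  have hyN : y ∈ normalizerIn S R := centralizerIn_le_normalizerIn S R ⟨hy.1, Subgroup.centralizer_le hRT hy.2⟩
  set y' := φ ⟨y, hyN⟩ with hy'def
  have hy' : y' ∈ centralizerIn S R' :=
    ⟨hom_apply_mem F hφ _, apply_mem_centralizer φ hRN hres _ (Subgroup.centralizer_le hRT hy.2)⟩
  obtain ⟨ψ, hψ, h1, h2⟩ := hz
  have hYN : R ⊔ (Subgroup.zpowers y) ≤ (normalizerIn S R) := sup_le hRN (Subgroup.zpowers_le.2 hyN)
  set φY := φ.comp (Subgroup.inclusion hYN) with hφY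
  obtain ⟨χ, hχ, hχr, hχ1, -⟩ := exists_inv F (restrict_mem F hφ hYN)
  obtain ⟨θ₁, hθ₁, hθ₁e⟩ := comp_hom_mem F hψ hφ fun u => hYN (Ext.range_le h1 h2 u)
  obtain ⟨θ, hθ, hθe⟩ := comp_hom_mem F hχ hθ₁ fun u => hχr.le ⟨u, rfl⟩
  have θapp : ∀ (u : ↥(R ⊔ (Subgroup.zpowers y))) (w : φY.range), (w : Ω) = φY u →
      θ w = φ ⟨ψ u, hYN (Ext.range_le h1 h2 u)⟩ := by
    rintro u ⟨w, hw⟩ (rfl : w = φY u)
    rw [hθe, hθ₁e]
    exact congrArg φ (Subtype.ext (congrArg ψ (Subtype.ext (hχ1 u hw))))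
  have hP'M : Subgroup.zpowers y' ≤ φY.range := Subgroup.zpowers_le.2
    ⟨⟨y, Subgroup.mem_sup_right (Subgroup.mem_zpowers y)⟩, rfl⟩
  have hR'M : R' ≤ φY.range := fun r hr => by
    obtain ⟨u, rfl⟩ := hres.ge hr
    exact ⟨⟨u, Subgroup.mem_sup_left u.2⟩, rfl⟩
  have hθy : θ ⟨y', hP'M (Subgroup.mem_zpowers y')⟩ = y' * ((e (z : R) : R') : Ω) := by
    rw [θapp ⟨y, Subgroup.mem_sup_right (Subgroup.mem_zpowers y)⟩ _ rfl, he, hy'def, ← map_mul]
    exact congrArg φ (Subtype.ext h2)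
  have hzc : ((e (z : R) : R') : Ω) ∈ zc R' := center_mem_zc e z
  have hγ' : θ.comp (Subgroup.inclusion hP'M) ∈ F.centralizerHom R' (Subgroup.zpowers y') := by
    refine ⟨restrict_mem F hθ hP'M, Subgroup.zpowers_le.2 hy', ?_, θ.comp (Subgroup.inclusion (sup_le hP'M hR'M)),
      restrict_mem F hθ _, fun u => rfl, ?_⟩
    · rintro ⟨_, k, rfl⟩
      show θ _ ∈ _
      rw [show Subgroup.inclusion hP'M ⟨y' ^ k, ⟨k, rfl⟩⟩ = (⟨y', hP'M (Subgroup.mem_zpowers y')⟩ : φY.range) ^ k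
        from Subtype.ext (by simp), map_zpow, hθy]
      exact Subgroup.zpow_mem _ (Subgroup.mul_mem _ hy' (zc_le_cent hR'.1 hzc)) k
    · rintro ⟨r, hr⟩
      obtain ⟨u, rfl⟩ := hres.ge hr
      show θ _ = _
      rw [θapp ⟨u, Subgroup.mem_sup_left u.2⟩ _ rfl]
      refine congrArg φ (Subtype.ext ?_)
      exact h1 u
  set Y' : rc S R' := ⟨y', cent_le_rc R' hy'⟩
  set Z' : rc S R' := ⟨(e (z : R) : R'), le_rc R' (e (z : R)).2⟩
  have hfix := eqv_of_centralizerHom hS hF hfc hγ' ⟨y', Subgroup.mem_zpowers y'⟩ h₂ hh₂ Y' (Y' * Z') rfl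
    (show y' * _ = _ from hθy.symm)
  rw [disp_mul hh₂ (x := Y') hy' (y := Z') (zc_le_cent hR'.1 hzc), inv_mul_cancel_left] at hfix
  have hd : disp h₂ Z' = ((e ((z⁻¹ * zAct R l₂ z : Subgroup.center R) : R) : R') : Ω) := by
    simp only [disp, Z', Subgroup.coe_mul, Subgroup.coe_inv, zAct_coe, map_mul, map_inv]
    rw [hhl₂.apply, congr_apply, e.symm_apply_apply]
  rw [hd] at hfix
  set w := z⁻¹ * zAct R l₂ z
  have h3 := hfix.2 h₁ hh₁ ⟨((e (w : R) : R') : Ω), le_rc R' (e (w : R)).2⟩ rfl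
  rw [hhl₁.apply, congr_apply, e.symm_apply_apply] at h3
  exact Subtype.ext (e.injective (Subtype.ext h3))

/-- For `R` normal in `S`, the displacement under a lift is fixed by the elements of `T` conjugate under it into `T`. -/
theorem stable (hS : IsPGroup p S) (hF : F.IsSaturated p) (hTc : F.StronglyClosed T)
    {R : Subgroup Ω} (hRT : R ≤ T) (hRn : S ≤ Subgroup.normalizer (R : Set Ω))
    (hRc : T ⊓ Subgroup.centralizer (R : Set Ω) ≤ R)
    {y : Ω} (hy : y ∈ centralizerIn S T) (hyQ : y ∈ rc S R)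
    {l : MulAut R} {h : MulAut (rc S R)} (hh : IsLift F R h) (hl : Rel (le_rc R) h l)
    {t t' : Ω} (ht : t ∈ T) (ht' : t' ∈ T) {vt vt' : MulAut R}
    (hvt : ∀ r : R, ((vt r : R) : Ω) = t * r * t⁻¹) (hvt' : ∀ r : R, ((vt' r : R) : Ω) = t' * r * t'⁻¹)
    (heq : l * vt * l⁻¹ = vt') :
    t' * disp h ⟨y, hyQ⟩ * t'⁻¹ = disp h ⟨y, hyQ⟩ := by
  have hTS := hTc.1
  have hRS : R ≤ S := hRT.trans hTS
  have hQS : (rc S R) ≤ S := rc_le hRS
  haveI := finite_of_le hRS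
  haveI := finite_of_le hQS
  haveI : Finite (MulAut (rc S R)) := Finite.of_injective _ DFunLike.coe_injective
  have hQn : S ≤ Subgroup.normalizer ((rc S R) : Set Ω) := fun s hs => mem_normalizer_of_conj_mem_finite fun x hx => by
    have hle : (rc S R) ≤ (rc S R).comap (MulAut.conj s).toMonoidHom := sup_le
      (fun r hr => le_rc R ((Subgroup.mem_normalizer_iff.1 (hRn hs) r).1 hr))
      fun c hc => cent_le_rc R ⟨S.mul_mem (S.mul_mem hs hc.1) (S.inv_mem hs),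
        Subgroup.mem_centralizer_iff.2 fun r hr => by
          have hr' : s⁻¹ * r * s ∈ R := by
            simpa using (Subgroup.mem_normalizer_iff.1 (Subgroup.inv_mem _ (hRn hs)) r).1 hr
          have hc' := Subgroup.mem_centralizer_iff.1 hc.2 _ hr'
          calc r * (s * c * s⁻¹) = s * (s⁻¹ * r * s * c) * s⁻¹ := by group
            _ = s * c * s⁻¹ * r := by rw [hc']; group⟩
    exact hle hx
  have hQfn : F.IsFullyNormalized (rc S R) := ⟨hQS, fun U _ => by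
    haveI : Finite (normalizerIn S (rc S R)) := finite_of_le (normalizerIn_le _ _)
    exact Subgroup.card_le_of_le ((normalizerIn_le S U).trans (le_inf le_rfl hQn))⟩
  -- lifts of the conjugations
  have hconjlift : ∀ (u : Ω) (hu : u ∈ T), ∃ c, IsLift F R c ∧ ∀ x : (rc S R), ((c x : (rc S R)) : Ω) = u * x * u⁻¹ := by
    intro u hu
    obtain ⟨c, hc, hce⟩ := exists_conjAut (hTS hu) (hQn (hTS hu))
    refine ⟨c, ⟨autInducedBy_le_autGroup F hQS hc, fun x hx => ?_, fun x hx => ?_⟩, hce⟩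
    · rw [hce]; exact (Subgroup.mem_normalizer_iff.1 (hRn (hTS hu)) x).1 hx
    · rw [hce]
      have hx' : u * (x : Ω) * u⁻¹ ∈ Subgroup.centralizer (R : Set Ω) := Subgroup.mem_centralizer_iff.2 fun r hr => by
        have hr' : u⁻¹ * r * u ∈ R := by
          simpa using (Subgroup.mem_normalizer_iff.1 (Subgroup.inv_mem _ (hRn (hTS hu))) r).1 hr
        have hc' := Subgroup.mem_centralizer_iff.1 hx.2 _ hr'
        calc r * (u * (x : Ω) * u⁻¹) = u * (u⁻¹ * r * u * x) * u⁻¹ := by group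
          _ = u * x * u⁻¹ * r := by rw [hc']; group
      have hc2 := Subgroup.mul_mem _ (Subgroup.inv_mem _ hx.2) hx'
      refine ⟨hRc ⟨?_, hc2⟩, hc2⟩
      have := (Subgroup.mem_normalizer_iff.1 (stronglyClosed_le_normalizer hTc (S.inv_mem hx.1)) u).1 hu
      rw [inv_inv] at this
      rw [show (x : Ω)⁻¹ * (u * x * u⁻¹) = (x : Ω)⁻¹ * u * x * u⁻¹ by group]
      exact T.mul_mem this (T.inv_mem hu)
  obtain ⟨c, hc, hce⟩ := hconjlift t ht
  obtain ⟨c', hc', hce'⟩ := hconjlift t' ht'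
  have hcR : Rel (le_rc R) c vt := fun r => Subtype.ext ((hce _).trans (hvt r).symm)
  have hcR' : Rel (le_rc R) c' vt' := fun r => Subtype.ext ((hce' _).trans (hvt' r).symm)
  set L := liftGroup F hRS
  have hk : c'⁻¹ * (h * c * h⁻¹) ∈ L :=
    L.mul_mem (L.inv_mem hc') (L.mul_mem (L.mul_mem hh hc) (L.inv_mem hh))
  have hkR : Rel (le_rc R) (c'⁻¹ * (h * c * h⁻¹)) 1 := by
    have := hcR'.inv.mul ((hl.mul hcR).mul hl.inv)
    rwa [heq, inv_mul_cancel] at this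
  -- the lifts fixing `R` form a normal `p`-subgroup of the stabilizer of `R`
  let Γ : Subgroup (MulAut (rc S R)) :=
    { carrier := {a | a ∈ F.autGroup (rc S R) ∧ ∀ x : (rc S R), (x : Ω) ∈ R ↔ ((a x : (rc S R)) : Ω) ∈ R}
      one_mem' := ⟨Subgroup.one_mem _, fun _ => Iff.rfl⟩
      mul_mem' := fun {a b} ha hb => ⟨Subgroup.mul_mem _ ha.1 hb.1, fun x => (hb.2 x).trans (ha.2 (b x))⟩
      inv_mem' := fun {a} ha => ⟨Subgroup.inv_mem _ ha.1, fun x => by
        have := ha.2 (a⁻¹ x)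
        rw [show a (a⁻¹ x) = x from a.apply_symm_apply x] at this
        exact this.symm⟩ }
  let K : Subgroup (MulAut (rc S R)) :=
    { carrier := {a | a ∈ L ∧ Rel (le_rc R) a 1}
      one_mem' := ⟨L.one_mem, Rel.one⟩
      mul_mem' := fun {a b} ha hb => ⟨L.mul_mem ha.1 hb.1, by simpa using ha.2.mul hb.2⟩
      inv_mem' := fun {a} ha => ⟨L.inv_mem ha.1, by simpa using ha.2.inv⟩ }
  have hKΓ : K ≤ Γ := fun a ha => ⟨ha.1.1, fun x => by
    refine ⟨ha.1.2.1 x, fun hx => ?_⟩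
    have := (L.inv_mem ha.1).2.1 (a x) hx
    rwa [show a⁻¹ (a x) = x from a.symm_apply_apply x] at this⟩
  have hKn : (K.subgroupOf Γ).Normal := ⟨fun k hk' g => by
    obtain ⟨β, -, hβ⟩ := exists_rel F (le_rc R) hQS g.2.1 fun x hx => (g.2.2 x).1 hx
    refine ⟨IsLift.conj hRS g.2.1 hβ hk'.1, ?_⟩
    have := (hβ.mul hk'.2).mul hβ.inv
    rwa [mul_one, mul_inv_cancel] at this⟩
  have hKp : IsPGroup p K := by
    intro a
    obtain ⟨m, hm⟩ := IsPGroup.iff_card.1 hS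
    refine ⟨m, Subtype.ext (MulEquiv.ext fun x => ?_)⟩
    have hR1 : ∀ x : (rc S R), (x : Ω) ∈ R → (a : MulAut (rc S R)) x = x := fun x hx =>
      Subtype.ext (by
        rw [show x = ⟨((⟨x, hx⟩ : R) : Ω), le_rc R hx⟩ from Subtype.ext rfl, a.2.2.apply ⟨x, hx⟩]; rfl)
    have key : ∀ (n : ℕ) (x : (rc S R)) (hx : (x : Ω) ∈ centralizerIn S R),
        (((a : MulAut (rc S R)) ^ n) x : (rc S R)) = x * ⟨_, le_rc R (a.2.1.2.2 x hx).1⟩ ^ n := by
      intro n x hx
      induction n with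
      | zero => simp
      | succ n ih =>
        rw [pow_succ', MulAut.mul_apply, ih, map_mul, map_pow, hR1 ⟨_, _⟩ (a.2.1.2.2 x hx).1, pow_succ', ← mul_assoc]
        refine congrArg (· * _) (Subtype.ext ?_)
        show ((a : MulAut (rc S R)) x : Ω) = (x : Ω) * ((x : Ω)⁻¹ * _)
        rw [mul_inv_cancel_left]
    rw [SubgroupClass.coe_pow]
    let Fx : Subgroup Ω :=
      { carrier := {u | ∃ hu : u ∈ rc S R, ((a : MulAut (rc S R)) ^ p ^ m) ⟨u, hu⟩ = ⟨u, hu⟩}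
        one_mem' := ⟨(rc S R).one_mem, map_one _⟩
        mul_mem' := fun {u v} hu hv => ⟨(rc S R).mul_mem hu.1 hv.1, by
          rw [show (⟨u * v, _⟩ : rc S R) = ⟨u, hu.1⟩ * ⟨v, hv.1⟩ from rfl, map_mul, hu.2, hv.2]⟩
        inv_mem' := fun {u} hu => ⟨(rc S R).inv_mem hu.1, by
          rw [show (⟨u⁻¹, _⟩ : rc S R) = ⟨u, hu.1⟩⁻¹ from rfl, map_inv, hu.2]⟩ }
    have hfix : rc S R ≤ Fx := by
      refine sup_le (fun u hu => ⟨le_rc R hu, ?_⟩) (fun u hu => ⟨cent_le_rc R hu, ?_⟩)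
      · have : ∀ n, ((a : MulAut (rc S R)) ^ n) ⟨u, le_rc R hu⟩ = ⟨u, le_rc R hu⟩ := fun n => by
          induction n with
          | zero => rfl
          | succ n ih => rw [pow_succ', MulAut.mul_apply, ih, hR1 _ hu]
        exact this _
      · rw [key _ _ hu]
        refine Subtype.ext ?_
        rw [Subgroup.coe_mul, SubgroupClass.coe_pow]
        have hdR := (a.2.1.2.2 ⟨u, cent_le_rc R hu⟩ hu).1
        have hd1 := congrArg Subtype.val (pow_card_eq_one' (x := (⟨_, hRS hdR⟩ : S)))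
        rw [SubgroupClass.coe_pow, hm] at hd1
        rw [show ((⟨_, le_rc R hdR⟩ : (rc S R)) : Ω) ^ p ^ m = 1 from hd1, mul_one]
    exact (hfix x.2).2
  have hVΓ : autInducedBy S (rc S R) ≤ Γ := fun v hv => ⟨autInducedBy_le_autGroup F hQS hv, fun x => by
    obtain ⟨s, hs, hse⟩ := (mem_autInducedBy_iff _).1 hv
    rw [hse]; exact Subgroup.mem_normalizer_iff.1 (hRn hs) x⟩
  have hsyl := isSyl_of_fullyAutomized (fullyNormalized_imp hS hF hQfn).2
  have hsylΓ : IsSyl p (autInducedBy S (rc S R)) Γ := ⟨hVΓ, hsyl.2.1, fun hd => hsyl.2.2 (hd.trans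
    (Dvd.intro _ (Subgroup.relIndex_mul_relIndex _ Γ _ hVΓ fun a ha => ha.1)))⟩
  obtain ⟨Sy, hSy⟩ := hsylΓ.toSylow
  have hKV : K.subgroupOf Γ ≤ (Sy : Subgroup Γ) :=
    (Cfsg.Agent.PBasic.le_pCore hKn (IsPGroup.of_equiv hKp (Subgroup.subgroupOfEquivOfLe hKΓ).symm)).trans
      (Cfsg.Agent.PBasic.pCore_le_sylow Sy)
  have hkV := hKV (show (⟨_, hKΓ ⟨hk, hkR⟩⟩ : Γ) ∈ K.subgroupOf Γ from ⟨hk, hkR⟩)
  rw [hSy, Subgroup.mem_subgroupOf] at hkV
  obtain ⟨s, hs, hse⟩ := (mem_autInducedBy_iff _).1 hkV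
  have hconj : ∀ x : (rc S R), ((h (c x) : (rc S R)) : Ω) = t' * s * (h x : (rc S R)) * (t' * s)⁻¹ := by
    intro x
    have e1 : h (c x) = c' ((c'⁻¹ * (h * c * h⁻¹)) (h x)) := by
      simp only [MulAut.mul_apply, MulAut.apply_inv_self, MulAut.inv_apply_self]
    rw [e1, hce', hse (h x)]; group
  have hh0 := (equivHom_autGroup F hQS).1 hh.1
  obtain ⟨ψ, hψ, hag⟩ := (fullyNormalized_receptive hS hF hQfn).2 (rc S R) _ hh0 (equivHom_range h)
  have htext : t ∈ extender S (rc S R) (equivHom h) := Subgroup.subset_closure ⟨hTS ht, hQn (hTS ht), t' * s,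
    S.mul_mem (hTS ht') hs, fun x hx => by
      show ((h ⟨_, hx⟩ : (rc S R)) : Ω) = _
      rw [show (⟨t * (x : Ω) * t⁻¹, hx⟩ : (rc S R)) = c x from Subtype.ext (hce x).symm]
      exact hconj x⟩
  set u := ψ ⟨t, htext⟩ with hu
  have huT : u ∈ T := stronglyClosed_apply_mem hTc hψ _ ht
  have hQle : (rc S R) ≤ extender S (rc S R) (equivHom h) := le_extender F hh0
  have hrel : ∀ x : (rc S R), ((h (c x) : (rc S R)) : Ω) = u * (h x : (rc S R)) * u⁻¹ := by
    intro x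
    have e1 : ∀ q : (rc S R), ((h q : (rc S R)) : Ω) = ψ ⟨q, hQle q.2⟩ := fun q => (hag q q.2 (hQle q.2)).symm
    rw [e1, e1, hu, ← map_inv, ← map_mul, ← map_mul]
    exact congrArg ψ (Subtype.ext (hce x))
  -- on `R` the element `u` acts as `t'`
  have hact : ∀ r : R, t' * (r : Ω) * t'⁻¹ = u * r * u⁻¹ := by
    intro r
    have h1 := hrel ⟨((l⁻¹ r : R) : Ω), le_rc R (l⁻¹ r).2⟩
    have h2 : c ⟨((l⁻¹ r : R) : Ω), le_rc R (l⁻¹ r).2⟩ = ⟨((vt (l⁻¹ r) : R) : Ω), le_rc R (vt (l⁻¹ r)).2⟩ :=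
      hcR (l⁻¹ r)
    rw [h2, hl.apply, hl.apply] at h1
    rw [show l (vt (l⁻¹ r)) = vt' r from by rw [← heq]; rfl, show l (l⁻¹ r) = r from l.apply_symm_apply r,
      hvt'] at h1
    exact h1
  set d := disp h ⟨y, hyQ⟩ with hd
  have hdR : d ∈ R := (hh.2.2 ⟨y, hyQ⟩ ⟨hy.1, Subgroup.centralizer_le hRT hy.2⟩).1
  have hcy : c ⟨y, hyQ⟩ = ⟨y, hyQ⟩ := Subtype.ext (by
    rw [hce]; show t * y * t⁻¹ = y
    rw [Subgroup.mem_centralizer_iff.1 hy.2 t ht, mul_inv_cancel_right])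
  have h3 := hrel ⟨y, hyQ⟩
  rw [hcy, disp_spec, ← hd] at h3
  rw [hact ⟨d, hdR⟩]
  have huy : u * y = y * u := Subgroup.mem_centralizer_iff.1 hy.2 u huT
  calc u * d * u⁻¹ = y⁻¹ * (u * (y * d) * u⁻¹) := by rw [← mul_assoc u y, huy]; group
    _ = d := by rw [← h3, inv_mul_cancel_left]

end Cfsg.Agent.Lim1
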