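import Cfsg.Agent.Lib.Lim1.Norm
import Cfsg.Agent.Lib.Lim1.Lift

/-!
# The local step: a fully normalized centric subgroup with a quadratic element outside
-/

set_option autoImplicit false
set_option linter.unusedSectionVars false
set_option linter.style.haveILetI false

namespace Cfsg.Agent.Lim1

open Cfsg Cfsg.FusionSystem Cfsg.Agent.FusionSys Cfsg.Agent.FusionSys.FocCent
open scoped IsMulCommutative

variable {Ω : Type*} [Group Ω] {S T : Subgroup Ω}

/-- The data: a normal subsystem over `T` of a saturated system over a finite `p`-group `S`, and an element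
of `C_S(T)`. -/
structure Setting (p : ℕ) (F : FusionSystem S) (E : FusionSystem T) : Prop where
  hS : IsPGroup p S
  hF : F.IsSaturated p
  hTc : F.StronglyClosed T
  hEF : E.IsSubsystemOf F
  hEsat : E.IsSaturated p
  hinv : E.IsInvariantIn F

/-- The maps of `E` on `Q` all extend fixing `y`. -/
def HomGood (F : FusionSystem S) (E : FusionSystem T) (y : Ω) (Q : Subgroup Ω) : Prop :=
  E.Hom Q ⊆ F.centralizerHom (Subgroup.zpowers y) Q

variable [Finite S] {p : ℕ} [hp : Fact p.Prime] {F : FusionSystem S} {E : FusionSystem T}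

theorem Setting.hTp (h : Setting p F E) : IsPGroup p T := h.hS.to_le h.hTc.1

theorem Setting.finT (h : Setting p F E) : Finite T := finite_of_le h.hTc.1

theorem Setting.le_cent (h : Setting p F E) {y : Ω} (hy : y ∈ centralizerIn S T) :
    T ≤ centralizerIn S (Subgroup.zpowers y) := fun t ht => ⟨h.hTc.1 ht,
  Subgroup.mem_centralizer_iff.2 (by
    rintro _ ⟨k, rfl⟩
    exact (Subgroup.mem_centralizer_iff.1 ((centralizerIn S T).zpow_mem hy k).2 t ht).symm)⟩

/-- The automorphisms with an extension fixing `y`. -/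
def goodGroup {R : Subgroup Ω} (F : FusionSystem S) (hR : R ≤ S) {y : Ω} (hy : y ∈ S) : Subgroup (MulAut R) where
  carrier := {α | Ext F R y α 1}
  one_mem' := Ext.one hR hy
  mul_mem' := fun h h' => (h.mul h').congr (by rw [map_one, mul_one])
  inv_mem' := by
    intro α h
    haveI := finite_of_le hR
    haveI : Finite (MulAut R) := Finite.of_injective _ DFunLike.coe_injective
    have hpow : ∀ n : ℕ, Ext F R y (α ^ n) 1 := by
      intro n
      induction n with
      | zero => rw [pow_zero]; exact Ext.one hR hy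
      | succ n ih => rw [pow_succ]; exact (ih.mul h).congr (by rw [map_one, mul_one])
    have : α⁻¹ = α ^ (orderOf α - 1) := by
      apply inv_eq_of_mul_eq_one_right
      rw [← pow_succ', Nat.sub_add_cancel (orderOf_pos α), pow_orderOf_eq_one]
    show Ext F R y α⁻¹ 1
    rw [this]
    exact hpow _

theorem center_isPGroup (h : Setting p F E) {P : Subgroup Ω} (hPT : P ≤ T) : IsPGroup p (Subgroup.center P) :=
  ((h.hTp).to_le hPT).to_subgroup _

/-- An automorphism normalizing the automorphisms induced by a subgroup `W` extends to a good map. -/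
theorem ext_of_normalizes (h : Setting p F E) {P : Subgroup Ω} (hP : E.IsFullyNormalized P) {y : Ω}
    (hy : y ∈ centralizerIn S T) {α : MulAut P} (hα : α ∈ E.autGroup P) {W : Subgroup Ω}
    (hW : ∀ t ∈ W, ∃ c ∈ autInducedBy T P, (∀ x : P, ((c x : P) : Ω) = t * x * t⁻¹) ∧
      α * c * α⁻¹ ∈ autInducedBy T P)
    (hWN : W ≤ normalizerIn T P) (hgood : ∀ Q, W ≤ Q → HomGood F E y Q) : Ext F P y α 1 := by
  haveI := h.finT
  have hn := (equivHom_autGroup E hP.1).1 hα
  obtain ⟨ψ, hψ, hag⟩ := (fullyNormalized_receptive h.hTp h.hEsat hP).2 P _ hn (equivHom_range α)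
  have hWext : W ≤ extender T P (equivHom α) := by
    intro t ht
    obtain ⟨c, -, hct, hc'⟩ := hW t ht
    obtain ⟨k, hk, hke⟩ := (mem_autInducedBy_iff _).1 hc'
    refine Subgroup.subset_closure ⟨(hWN ht).1, (hWN ht).2, k, hk, fun x hx => ?_⟩
    have h2 := hke (α x)
    simp only [MulAut.mul_apply] at h2
    rw [show α⁻¹ (α x) = x from α.symm_apply_apply x] at h2
    refine Eq.trans ?_ h2
    show ((α ⟨_, hx⟩ : P) : Ω) = _
    rw [show (⟨t * (x : Ω) * t⁻¹, hx⟩ : P) = c x from Subtype.ext (hct x).symm]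
  have hle : P ≤ extender T P (equivHom α) := le_extender E hn
  refine Ext.of_good (hom_congr (centSystem F (Subgroup.zpowers_le.2 hy.1))
    (restrict_mem (centSystem F (Subgroup.zpowers_le.2 hy.1)) (hgood _ hWext hψ) hle) fun x => ?_)
  exact (hag x x.2 (hle x.2)).symm

/-- From the Frattini argument: it suffices to treat the conjugates of the induced automorphisms. -/
theorem ext_of_lGroup (h : Setting p F E) {P : Subgroup Ω} (hP : E.IsFullyNormalized P) {y : Ω}
    (hy : y ∈ centralizerIn S T) (hL : ∀ l ∈ lGroup E P, Ext F P y l 1)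
    (hgood : ∀ Q, normalizerIn T P ≤ Q → HomGood F E y Q) {α : MulAut P} (hα : α ∈ E.autGroup P) :
    Ext F P y α 1 := by
  haveI := h.finT
  haveI := finite_of_le (hP.1.trans h.hTc.1)
  haveI : Finite (MulAut P) := Finite.of_injective _ DFunLike.coe_injective
  have hsyl := isSyl_of_fullyAutomized (fullyNormalized_imp h.hTp h.hEsat hP).2
  obtain ⟨Sy, hSy⟩ := hsyl.toSylow
  haveI : ((lGroup E P).subgroupOf (E.autGroup P)).Normal := ⟨fun l hl a => lGroup_conj E a.2 hl⟩
  have htop := Sylow.normalizer_sup_eq_top' (N := (lGroup E P).subgroupOf (E.autGroup P)) Sy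
    (by rw [hSy]; exact fun v hv => autInducedBy_le_lGroup E P hv)
  have key : (goodGroup F (hP.1.trans h.hTc.1) hy.1).subgroupOf (E.autGroup P) = ⊤ := by
    rw [← top_le_iff, ← htop]
    refine sup_le (fun n hn => ?_) fun l hl => hL _ hl
    refine ext_of_normalizes h hP hy n.2 (fun t ht => ?_) le_rfl hgood
    obtain ⟨c, hc, hce⟩ := exists_conjAut (P := P) ht.1 ht.2
    refine ⟨c, hc, hce, ?_⟩
    have h1 := (Subgroup.mem_normalizer_iff.1 hn (⟨c, hsyl.1 hc⟩ : E.autGroup P)).1 (by rw [hSy]; exact hc)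
    rw [hSy, Subgroup.mem_subgroupOf] at h1
    exact h1
  exact key.ge (Subgroup.mem_top (⟨α, hα⟩ : E.autGroup P))

/-- The action of a group of automorphisms of `P` on the centre. -/
def zActOn {P : Subgroup Ω} (L : Subgroup (MulAut P)) : L →* MulAut (Subgroup.center P) :=
  (zAct P).comp L.subtype

/-- The displacements of the elements of a group of automorphisms. -/
theorem exists_derivation {P : Subgroup Ω} (hPS : P ≤ S) {y : Ω} (hy : y ∈ S) (L : Subgroup (MulAut P))
    (hL : L ≤ extGroup F hPS hy) :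
    ∃ d : L → Subgroup.center P, (∀ g : L, Ext F P y g (d g)) ∧
      (∀ g k : L, (d g * zActOn L g (d k)) / d (g * k) ∈ kerZ F hPS hy) ∧
      ∀ g : L, ∀ v ∈ kerZ F hPS hy, zActOn L g v ∈ kerZ F hPS hy := by
  choose d hd using fun g : L => hL g.2
  exact ⟨d, hd, fun g k => ((hd g).mul (hd k)).div_mem hPS hy (hd (g * k)),
    fun g v hv => kerZ_invariant hPS hy (hL g.2) hv⟩

/-- `t` acts quadratically on the elements of order `p` of the centre of `P`. -/
def QuadIn (p : ℕ) (P : Subgroup Ω) (t : Ω) : Prop :=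
  ∀ v : Subgroup.center P, v ^ p = 1 →
    t * (t * ((v : P) : Ω) * t⁻¹ * ((v : P) : Ω)⁻¹) * t⁻¹ * (t * ((v : P) : Ω) * t⁻¹ * ((v : P) : Ω)⁻¹)⁻¹ = 1

theorem quadIn_of_commutes {P : Subgroup Ω} {t : Ω}
    (h : ∀ v : Subgroup.center P, v ^ p = 1 → t * ((v : P) : Ω) = ((v : P) : Ω) * t) : QuadIn p P t := by
  intro v hv
  rw [show t * ((v : P) : Ω) * t⁻¹ * ((v : P) : Ω)⁻¹ = 1 by rw [h v hv]; group]
  group

theorem quadIn_of_mem {P : Subgroup Ω} {t : Ω} (ht : t ∈ P) : QuadIn p P t :=
  quadIn_of_commutes fun v _ => congrArg Subtype.val (Subgroup.mem_center_iff.1 v.2 ⟨t, ht⟩)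

/-- The local step. -/
theorem local_good (h : Setting p F E) (hp2 : p ≠ 2) {P : Subgroup Ω} (hP : E.IsFullyNormalized P)
    (hPc : ∀ P', F.IsConj P P' → T ⊓ Subgroup.centralizer (P' : Set Ω) ≤ P') {y : Ω}
    (hy : y ∈ centralizerIn S T)
    (hgood : ∀ Q, (∀ t ∈ normalizerIn T P, QuadIn p P t → t ∈ Q) → HomGood F E y Q)
    {α : MulAut P} (hα : α ∈ E.autGroup P) : Ext F P y α 1 := by
  haveI := h.finT
  have hPS := hP.1.trans h.hTc.1
  haveI := finite_of_le hPS
  haveI : Finite (MulAut P) := Finite.of_injective _ DFunLike.coe_injective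
  refine ext_of_lGroup h hP hy ?_ (fun Q hQ => hgood Q fun t ht _ => hQ ht) hα
  set L := lGroup E P with hLdef
  obtain ⟨d, hd, hmul, hinvK⟩ := exists_derivation hPS hy.1 L fun l hl => exists_ext h.hS h.hF h.hTc h.hEF hP.1 hPc hy hl
  set Sy := (autInducedBy T P).subgroupOf L
  set act := zActOn L
  set K := kerZ F hPS hy.1
  have hsyl := isSyl_of_fullyAutomized (fullyNormalized_imp h.hTp h.hEsat hP).2
  have hSi : ¬ p ∣ Sy.index := fun hd' => hsyl.2.2 (hd'.trans (Dvd.intro _
    (Subgroup.relIndex_mul_relIndex _ L _ (autInducedBy_le_lGroup E P) (lGroup_le E hP.1))))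
  have hSp : IsPGroup p Sy := isPGroup_subgroupOf hsyl.2.1
  have hdS : ∀ s ∈ Sy, d s ∈ K := by
    intro s hs
    obtain ⟨t, ht, hte⟩ := (mem_autInducedBy_iff _).1 hs
    have := (hd s).div_mem hPS hy.1 (Ext.conj hPS hy.1 (h.hTc.1 ht)
      (Subgroup.mem_centralizer_iff.1 hy.2 t ht) hte)
    rwa [div_one] at this
  let H : Subgroup L :=
    { carrier := {g | d g ∈ K}
      one_mem' := hdS 1 Sy.one_mem
      mul_mem' := fun {a b} ha hb => by
        have h1 := K.mul_mem ha (hinvK a _ hb)
        have := K.div_mem h1 (hmul a b)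
        rwa [div_div_cancel] at this
      inv_mem' := fun {a} ha => by
        have h1 := hmul a a⁻¹
        rw [mul_inv_cancel] at h1
        have h2 : act a (d a⁻¹) ∈ K := by
          have := K.mul_mem (K.mul_mem (K.inv_mem ha) h1) (hdS 1 Sy.one_mem)
          rwa [mul_assoc, div_mul_cancel, inv_mul_cancel_left] at this
        have := hinvK a⁻¹ _ h2
        rwa [← MulAut.mul_apply, ← map_mul, inv_mul_cancel, map_one] at this }
  have hSH : Sy ≤ H := hdS
  obtain ⟨b, -, hb, -⟩ := exists_inner (center_isPGroup h hP.1) act Sy hSi K hinvK d hmul hdS ⊤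
    fun _ => Subgroup.mem_top _
  have hbH : ∀ g ∈ H, chg act g b ∈ K := fun g hg => by
    have := K.mul_mem (K.inv_mem (show d g ∈ K from hg)) (hb g)
    rwa [inv_mul_cancel_left] at this
  -- the preimage in `N_T(P)` of the subgroup generated by the quadratic elements
  set Wq := Subgroup.closure (quadSet p act Sy)
  have hW : ∀ g : L, (∀ w ∈ Wq, g * w * g⁻¹ ∈ Wq) → g ∈ H := by
    intro g hg
    set νN : normalizerIn T P →* MulAut P :=
      P.normalizerMonoidHom.comp (Subgroup.inclusion (inf_le_right : normalizerIn T P ≤ _))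
    set W0 := ((Wq.map L.subtype).comap νN).map (normalizerIn T P).subtype with hW0
    refine Ext.div_mem hPS hy.1 (hd g) (ext_of_normalizes h hP hy (lGroup_le E hP.1 g.2) (W := W0) ?_
      (Subgroup.map_subtype_le _) fun Q hQ => hgood Q fun t ht hq => hQ ?_) |> (fun h' => by rwa [div_one] at h')
    · rintro _ ⟨t, ht, rfl⟩
      obtain ⟨w, hw, hwe⟩ := ht
      refine ⟨νN t, (mem_autInducedBy_iff _).2 ⟨t, t.2.1, fun x => rfl⟩, fun x => rfl, ?_⟩
      have hgw := hg w hw
      have hle : Wq ≤ Sy := (Subgroup.closure_le _).2 fun z hz => hz.1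
      have := Subgroup.mem_subgroupOf.1 (hle hgw)
      rw [← hwe]
      simpa using this
    · refine ⟨⟨t, ht⟩, ⟨⟨νN ⟨t, ht⟩, autInducedBy_le_lGroup E P
        ((mem_autInducedBy_iff _).2 ⟨t, ht.1, fun x => rfl⟩)⟩, Subgroup.subset_closure
          ⟨(mem_autInducedBy_iff _).2 ⟨t, ht.1, fun x => rfl⟩, fun v hv => ?_⟩, rfl⟩, rfl⟩
      refine Subtype.ext (Subtype.ext ?_)
      simp only [chg, div_eq_mul_inv]
      exact hq v hv
  intro l hl
  have hc := control hp2 (center_isPGroup h hP.1) act hSp hSi hSH hW K hinvK b hbH ⟨l, hl⟩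
  have : d ⟨l, hl⟩ ∈ K := by
    have := K.mul_mem (hb ⟨l, hl⟩) (K.inv_mem hc)
    rwa [chg, mul_inv_cancel_right] at this
  exact (hd ⟨l, hl⟩).one_of_mem hPS hy.1 this

end Cfsg.Agent.Lim1
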