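import Cfsg.Agent.Lib.Lim1.Stage

/-!
# For odd `p`, an element centralizing `T` times a central one centralizes the normal subsystem
-/

set_option autoImplicit false
set_option linter.unusedSectionVars false
set_option linter.style.haveILetI false

namespace Cfsg.Agent.Lim1

open Cfsg Cfsg.FusionSystem Cfsg.Agent.FusionSys Cfsg.Agent.FusionSys.FocCent
open scoped IsMulCommutative

variable {Ω : Type*} [Group Ω] {S T : Subgroup Ω} [Finite S] {p : ℕ} [hp : Fact p.Prime]
  {F : FusionSystem S} {E : FusionSystem T}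

/-- The automorphisms of a core, given the maps on subgroups with larger data. -/
theorem core_good (h : Setting p F E) (hp2 : p ≠ 2) {y : Ω} (hy : y ∈ centralizerIn S T) {R : Subgroup Ω}
    (hR : IsCore p E R) (htop : ∀ α ∈ E.autGroup (topCore p T), Ext F (topCore p T) y α 1)
    (houter : ∀ Q ≤ T, key p (Nat.card T) R < key p (Nat.card T) Q → HomGood F E y Q)
    {α : MulAut R} (hα : α ∈ E.autGroup R) : Ext F R y α 1 := by
  haveI := h.finT
  have hRT := hR.le
  haveI := finite_of_le hRT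
  by_cases hk : key p (Nat.card T) T ≤ key p (Nat.card T) R
  · obtain ⟨-, hj⟩ := jEA_eq_of_key_le hRT le_rfl hk
    obtain rfl : R = topCore p T := by rw [hR.1, hj]; rfl
    exact htop α hα
  -- the normalizer of a core has larger data
  have hnorm : ∀ R : Subgroup Ω, IsCore p E R → ¬ key p (Nat.card T) T ≤ key p (Nat.card T) R →
      key p (Nat.card T) R < key p (Nat.card T) (normalizerIn T R) := by
    intro R hR hk
    have hRT := hR.le
    haveI : Finite (normalizerIn T R) := finite_of_le (normalizerIn_le _ _)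
    by_contra hle
    obtain ⟨-, hj⟩ := jEA_eq_of_key_le (le_normalizerIn hRT) (normalizerIn_le _ _) (not_lt.1 hle)
    have hN : normalizerIn T (normalizerIn T R) ≤ normalizerIn T R := by
      intro g hg
      refine ⟨hg.1, ?_⟩
      have hJ : g ∈ Subgroup.normalizer (jEA p R : Set Ω) := hj ▸ normalizer_le_normalizer_jEA _ hg.2
      haveI := finite_of_le hRT
      refine mem_normalizer_of_conj_mem_finite fun u hu => ?_
      suffices R ≤ R.comap (MulAut.conj g).toMonoidHom from this hu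
      refine le_of_eq_of_le hR.1 (sup_le (fun v hv => jEA_le R ((Subgroup.mem_normalizer_iff.1 hJ v).1 hv))
        fun v hv => le_of_le_of_eq le_sup_right hR.1.symm ?_)
      refine ⟨T.mul_mem (T.mul_mem hg.1 hv.1) (T.inv_mem hg.1), Subgroup.mem_centralizer_iff.2 fun r hr => ?_⟩
      have hr' : g⁻¹ * r * g ∈ jEA p R := by
        simpa using (Subgroup.mem_normalizer_iff.1 (Subgroup.inv_mem _ hJ) r).1 hr
      have hc := Subgroup.mem_centralizer_iff.1 hv.2 _ hr'
      calc r * (g * v * g⁻¹) = g * (g⁻¹ * r * g * v) * g⁻¹ := by group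
        _ = g * v * g⁻¹ * r := by rw [hc]; group
    rcases eq_or_lt_of_le (normalizerIn_le T R) with he | hlt
    · exact hk (le_trans (le_of_eq (congrArg (key p (Nat.card T)) he.symm)) (not_lt.1 hle))
    · exact (not_lt_of_ge hN) (lt_normalizerIn h.hTp hlt)
  -- transport to a fully normalized conjugate
  obtain ⟨R0, hconj, hR0⟩ := exists_fullyNormalized E hRT
  obtain ⟨χ, hχ, -, hχR⟩ := exists_normalizer_map_fullyNormalized h.hTp h.hEsat hR0 hconj
  have hRN := le_normalizerIn hRT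
  have hres := extend_restrict_range hRN hχR
  have hχR' := restrict_mem E hχ hRN
  have hcore0 : IsCore p E R0 := by
    obtain ⟨h1, h2, -⟩ := hR.map hχR'
    rw [hres] at h1 h2
    refine ⟨h2, isConj_le_right h1, fun Q hQ => ?_⟩
    have h3 := hR.2.2 Q (isConj_trans h1 hQ)
    obtain ⟨-, hJ⟩ := dEA_jEA_range (p := p) (E.injective_of_mem hχR')
    have hC : centralizerIn T (jEA p R) ≤ R := le_of_le_of_eq le_sup_right hR.1.symm
    have h4 := map_centralizerIn hχR' (jEA_le R) hC hR.2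
    rw [← hJ, hres] at h4
    rw [h4, card_map_of_le (E.injective_of_mem hχR') hC]
    exact h3
  have hkey0 : key p (Nat.card T) R0 = key p (Nat.card T) R := by
    rw [← hres]; exact key_range hRT (E.injective_of_mem hχR')
  -- the conjugate
  have hfull : ∀ β ∈ E.autGroup R0, Ext F R0 y β 1 := by
    intro β hβ
    refine local_good h hp2 hR0 (h.centric hcore0.centric) hy (fun Q hQ φ hφ => houter Q (hom_le E hφ) ?_ hφ) hβ
    have hQT := hom_le E hφ
    haveI := finite_of_le hQT
    haveI := finite_of_le hR0.1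
    have hRQ : R0 ≤ Q := fun t ht => hQ t (le_normalizerIn hR0.1 ht) (quadIn_of_mem ht)
    rw [← hkey0]
    by_contra hle
    obtain ⟨hd, hj⟩ := jEA_eq_of_key_le hRQ hQT (not_lt.1 hle)
    have hN := hnorm R0 hcore0 (by rw [hkey0]; exact hk)
    haveI : Finite (normalizerIn T R0) := finite_of_le (normalizerIn_le _ _)
    set V := ((powMonoidHom p : Subgroup.center R0 →* Subgroup.center R0).ker).map
      (R0.subtype.comp (Subgroup.center R0).subtype) with hV
    have hVmem : ∀ v ∈ V, v ∈ R0 ∧ v ^ p = 1 ∧ ∀ u ∈ R0, u * v = v * u := by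
      rintro _ ⟨v, hv, rfl⟩
      refine ⟨(v : R0).2, ?_, fun u hu => congrArg Subtype.val (Subgroup.mem_center_iff.1 v.2 ⟨u, hu⟩)⟩
      have h0 : v ^ p = 1 := hv
      rw [← map_pow, h0, map_one]
    have hVn : normalizerIn T R0 ≤ Subgroup.normalizer (V : Set Ω) := by
      intro g hg
      haveI := finite_of_le (show V ≤ R0 from fun v hv => (hVmem v hv).1)
      refine mem_normalizer_of_conj_mem_finite ?_
      rintro _ ⟨v, hv, rfl⟩
      have hgv : g * ((v : R0) : Ω) * g⁻¹ ∈ R0 := (Subgroup.mem_normalizer_iff.1 hg.2 _).1 (v : R0).2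
      refine ⟨⟨⟨_, hgv⟩, Subgroup.mem_center_iff.2 fun u => Subtype.ext ?_⟩, ?_, rfl⟩
      · have hu' : g⁻¹ * (u : Ω) * g ∈ R0 := by
          simpa using (Subgroup.mem_normalizer_iff.1 (Subgroup.inv_mem _ hg.2) (u : Ω)).1 u.2
        have hc := congrArg Subtype.val (Subgroup.mem_center_iff.1 v.2 ⟨_, hu'⟩)
        simp only [Subgroup.coe_mul] at hc
        show (u : Ω) * (g * ((v : R0) : Ω) * g⁻¹) = g * ((v : R0) : Ω) * g⁻¹ * u
        calc (u : Ω) * (g * ((v : R0) : Ω) * g⁻¹) = g * (g⁻¹ * u * g * ((v : R0) : Ω)) * g⁻¹ := by group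
          _ = g * ((v : R0) : Ω) * g⁻¹ * u := by rw [hc]; group
      · refine Subtype.ext (Subtype.ext ?_)
        show (g * ((v : R0) : Ω) * g⁻¹) ^ p = 1
        rw [conj_pow, show ((v : R0) : Ω) ^ p = 1 from (hVmem _ ⟨v, hv, rfl⟩).2.1, mul_one, mul_inv_cancel]
    obtain ⟨B, hBN, hB, hBd, hBY, hq⟩ := exists_quadratic (Y := jEA p R0)
      (h.hTp.to_le (normalizerIn_le _ _)) (fun v hv => le_normalizerIn hR0.1 (hVmem v hv).1)
      ⟨fun a ha b hb => (hVmem b hb).2.2 a (hVmem a ha).1, fun a ha => (hVmem a ha).2.1⟩ hVn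
      (fun u hu v hv => (hVmem v hv).2.2 u (jEA_le R0 hu)) (by
        by_contra hall
        simp only [not_exists, not_and, not_not] at hall
        obtain ⟨A, hA, hEA, hc⟩ := exists_card_dEA (p := p) (normalizerIn T R0)
        have hdN : dEA p (normalizerIn T R0) = dEA p R0 := le_antisymm
          (hc ▸ card_le_dEA ((hall A hA hEA hc).trans (jEA_le R0)) hEA) (dEA_mono (le_normalizerIn hR0.1))
        have hjN : jEA p (normalizerIn T R0) ≤ jEA p R0 := sSup_le fun B hB => hall B hB.1 hB.2.1 hB.2.2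
        haveI := finite_of_le ((jEA_le (p := p) R0).trans hR0.1)
        refine absurd hN (not_lt.2 ?_)
        unfold key
        rw [hdN]
        exact Nat.add_le_add_left (Subgroup.card_le_of_le hjN) _)
    have hBQ : B ≤ Q := fun b hb => hQ b (hBN hb) fun v hv => hq b hb _ ⟨v, hv, rfl⟩
    refine hBY (le_of_le_of_eq (le_jEA hBQ hB ?_) hj.symm)
    rw [← hd, hBd]
    exact dEA_mono (le_normalizerIn hR0.1)
  -- back
  set D := fixSystem E F hy.1 (h.le_cent hy)
  have hχgood : χ ∈ D.Hom _ := ⟨hχ, houter _ (normalizerIn_le _ _) (hnorm R hR hk) hχ⟩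
  set e := mapEquiv D (restrict_mem D hχgood hRN) hres
  have he := equivHom_mapEquiv D (restrict_mem D hχgood hRN) hres
  have he' := equivHom_mapEquiv_symm D (restrict_mem D hχgood hRN) hres
  have hβ : MulAut.congr e α ∈ E.autGroup R0 := congr_mem_autGroup E e he.1 he'.1 hα
  have hβD : MulAut.congr e α ∈ D.autGroup R0 := (equivHom_autGroup D hR0.1).2
    ⟨(equivHom_autGroup E hR0.1).1 hβ, (hfull _ hβ).good (h.le_cent hy) hR0.1⟩
  have hback := congr_mem_autGroup D e.symm he' (by rw [MulEquiv.symm_symm]; exact he) hβD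
  have hαD : α ∈ D.autGroup R := by
    convert hback using 1
    ext u
    simp
  exact Ext.of_good ((equivHom_autGroup D hRT).1 hαD).2

/-- A subgroup with no quadratic element outside. -/
theorem lGroup_good_of_no_quad (h : Setting p F E) {y : Ω} (hy : y ∈ centralizerIn S T) {P : Subgroup Ω}
    (hP : E.IsFullyNormalized P) (hPc : E.IsCentric P) (hno : ∀ t ∈ normalizerIn T P, QuadIn p P t → t ∈ P)
    (hR : ∀ α ∈ E.autGroup (jEA p P ⊔ centralizerIn T (jEA p P)),
      Ext F (jEA p P ⊔ centralizerIn T (jEA p P)) y α 1)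
    {l : MulAut P} (hl : l ∈ lGroup E P) : Ext F P y l 1 := by
  haveI := h.finT
  obtain ⟨hRP, hcore, -⟩ := core_of_no_quad h.hTp h.hEsat hP hno
  generalize hRdef : jEA p P ⊔ centralizerIn T (jEA p P) = R at hR hRP hcore
  have hPT := hP.1
  have hPS := hPT.trans h.hTc.1
  have hRT := hRP.trans hPT
  have hRS := hRT.trans h.hTc.1
  haveI := finite_of_le hPS
  haveI := finite_of_le hRS
  haveI : Finite (MulAut P) := Finite.of_injective _ DFunLike.coe_injective
  -- automorphisms of `P` fix `R`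
  have hinvR : ∀ a ∈ E.autGroup P, ∀ u : P, (u : Ω) ∈ R → ((a u : P) : Ω) ∈ R := by
    intro a ha u hu
    obtain ⟨-, hJ⟩ := dEA_jEA_range (p := p) (E.injective_of_mem ((equivHom_autGroup E hPT).1 ha))
    rw [equivHom_range] at hJ
    subst hRdef
    have hCP : centralizerIn T (jEA p P) ≤ P := le_sup_right.trans hRP
    suffices jEA p P ⊔ centralizerIn T (jEA p P) ≤
        ((jEA p P ⊔ centralizerIn T (jEA p P)).comap (equivHom a)).map P.subtype by
      obtain ⟨w, hw, hwe⟩ := this hu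
      exact (show w = u from Subtype.ext hwe) ▸ hw
    refine sup_le (fun v hv => ⟨⟨v, jEA_le P hv⟩, Subgroup.mem_sup_left (hJ.ge ⟨_, hv, rfl⟩), rfl⟩)
      fun v hv => ⟨⟨v, hCP hv⟩, Subgroup.mem_sup_right ⟨hPT (a _).2, Subgroup.mem_centralizer_iff.2 fun r hr => ?_⟩, rfl⟩
    obtain ⟨w, hw, rfl⟩ := hJ.le hr
    rw [← map_mul, ← map_mul]
    exact congrArg (equivHom a) (Subtype.ext (Subgroup.mem_centralizer_iff.1 hv.2 w hw))
  have hrestr : ∀ a ∈ E.autGroup P, ∃ a' ∈ E.autGroup R, ∀ r : R, ((a' r : R) : Ω) = (a ⟨r, hRP r.2⟩ : P) :=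
    fun a ha => exists_aut_of_invariant E (restrict_mem E ((equivHom_autGroup E hPT).1 ha) hRP)
      fun r => hinvR a ha _ r.2
  -- restriction of `lGroup`
  let LR : Subgroup (MulAut P) :=
    { carrier := {m | ∃ m' ∈ lGroup E R, ∀ r : R, ((m' r : R) : Ω) = (m ⟨r, hRP r.2⟩ : P)}
      one_mem' := ⟨1, Subgroup.one_mem _, fun _ => rfl⟩
      mul_mem' := by
        rintro m n ⟨m', hm', hme⟩ ⟨n', hn', hne⟩
        refine ⟨m' * n', Subgroup.mul_mem _ hm' hn', fun r => ?_⟩
        rw [MulAut.mul_apply, MulAut.mul_apply, hme]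
        exact congrArg (fun u : P => ((m u : P) : Ω)) (Subtype.ext (hne r))
      inv_mem' := by
        rintro m ⟨m', hm', hme⟩
        refine ⟨m'⁻¹, Subgroup.inv_mem _ hm', fun r => ?_⟩
        have := hme (m'⁻¹ r)
        rw [show m' (m'⁻¹ r) = r from m'.apply_symm_apply r] at this
        have e2 : (⟨r, hRP r.2⟩ : P) = m ⟨(m'⁻¹ r : R), hRP (m'⁻¹ r).2⟩ := Subtype.ext this
        rw [e2, MulAut.inv_apply_self] }
  have hLR : lGroup E P ≤ LR := by
    refine (Subgroup.closure_le _).2 ?_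
    rintro _ ⟨a, ha, v, hv, rfl⟩
    obtain ⟨a', ha', hae⟩ := hrestr a ha
    obtain ⟨t, ht, hte⟩ := (mem_autInducedBy_iff _).1 hv
    have htR : t ∈ Subgroup.normalizer (R : Set Ω) := mem_normalizer_of_conj_mem_finite fun u hu => by
      have := hinvR v (autInducedBy_le_autGroup E hPT hv) ⟨u, hRP hu⟩ hu
      rwa [hte] at this
    obtain ⟨v', hv', hve⟩ := exists_conjAut (P := R) ht htR
    refine ⟨a' * v' * a'⁻¹, Subgroup.subset_closure ⟨a', ha', v', hv', rfl⟩, fun r => ?_⟩
    rw [MulAut.mul_apply, MulAut.mul_apply, hae, MulAut.mul_apply, MulAut.mul_apply]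
    refine congrArg (fun u : P => ((a u : P) : Ω)) (Subtype.ext ?_)
    show ((v' _ : R) : Ω) = _
    rw [hve, hte]
    have := hae (a'⁻¹ r)
    rw [show a' (a'⁻¹ r) = r from a'.apply_symm_apply r] at this
    have e2 : (⟨r, hRP r.2⟩ : P) = a ⟨(a'⁻¹ r : R), hRP (a'⁻¹ r).2⟩ := Subtype.ext this
    rw [e2, MulAut.inv_apply_self]
  have hZ : ∀ z : Subgroup.center P, ((z : P) : Ω) ∈ R := fun z => hRdef ▸ Subgroup.mem_sup_right
    ⟨hPT (z : P).2, Subgroup.mem_centralizer_iff.2 fun r hr =>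
      congrArg Subtype.val (Subgroup.mem_center_iff.1 z.2 ⟨r, jEA_le P hr⟩)⟩
  set ι := centerIncl hRP hZ
  have hι : Function.Injective ι := fun a b hab =>
    Subtype.ext (Subtype.ext (congrArg (fun u : Subgroup.center R => ((u : R) : Ω)) hab))
  set L := lGroup E P
  have hL := fun l (hl : l ∈ L) => exists_ext h.hS h.hF h.hTc h.hEF hPT (h.centric hPc) hy hl
  obtain ⟨d, hd, hmul, hinvK⟩ := exists_derivation hPS hy.1 L hL
  set act := zActOn L
  set K := kerZ F hPS hy.1
  set KR := kerZ F hRS hy.1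
  set M' := KR.comap ι
  have hact : ∀ (g : L) (m' : MulAut R), (∀ r : R, ((m' r : R) : Ω) = ((g : MulAut P) ⟨r, hRP r.2⟩ : P)) →
      ∀ z, ι (act g z) = zAct R m' (ι z) := fun g m' hm z => by
    refine Subtype.ext (Subtype.ext ?_)
    exact (hm ⟨_, hZ z⟩).symm
  have hdM : ∀ g : L, d g ∈ M' := by
    intro g
    obtain ⟨m', hm', hme⟩ := hLR g.2
    have := ((hd g).restrict hRP hme (ι (d g)) rfl).div_mem hRS hy.1 (hR m' (lGroup_le E hRT hm'))
    rwa [div_one] at this
  let F1 : Subgroup (Subgroup.center P) :=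
    { carrier := {z | ∀ g : L, act g z = z}
      one_mem' := fun g => map_one _
      mul_mem' := fun {a b} ha hb g => by rw [map_mul, ha g, hb g]
      inv_mem' := fun {a} ha g => by rw [map_inv, ha g] }
  have hchg : ∀ (g : L), ∀ z ∈ M', act g z / z ∈ F1 := by
    intro g z hz g₁
    obtain ⟨m', hm', hme⟩ := hLR g.2
    obtain ⟨m₁, hm₁, hme₁⟩ := hLR g₁.2
    have htwo := two_step h.hS h.hF h.hTc h.hEF hRT (h.centric hcore.centric) hy (z := ι z) hz hm₁ hm'
    apply hι
    rw [hact g₁ m₁ hme₁, map_div, hact g m' hme, div_eq_inv_mul]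
    exact htwo
  set Sy := (autInducedBy T P).subgroupOf L
  have hsyl := isSyl_of_fullyAutomized (fullyNormalized_imp h.hTp h.hEsat hP).2
  have hSi : ¬ p ∣ Sy.index := fun hd' => hsyl.2.2 (hd'.trans (Dvd.intro _
    (Subgroup.relIndex_mul_relIndex _ L _ (autInducedBy_le_lGroup E P) (lGroup_le E hPT))))
  have hdS : ∀ s ∈ Sy, d s ∈ K := by
    intro s hs
    obtain ⟨t, ht, hte⟩ := (mem_autInducedBy_iff _).1 hs
    have := (hd s).div_mem hPS hy.1 (Ext.conj hPS hy.1 (h.hTc.1 ht)
      (Subgroup.mem_centralizer_iff.1 hy.2 t ht) hte)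
    rwa [div_one] at this
  have hN1 : ∀ g, ∀ v ∈ F1 ⊔ K, act g v ∈ F1 ⊔ K := by
    intro g v hv
    obtain ⟨a, ha, b, hb, rfl⟩ := Subgroup.mem_sup.1 hv
    rw [map_mul, ha g]
    exact Subgroup.mul_mem_sup ha (hinvK g b hb)
  obtain ⟨b, hb, hbg, -⟩ := exists_inner (center_isPGroup h hPT) act Sy hSi (F1 ⊔ K) hN1 d
    (fun g k => Subgroup.mem_sup_right (hmul g k)) (fun s hs => Subgroup.mem_sup_right (hdS s hs)) M' hdM
  have hdN : ∀ g : L, d g ∈ F1 ⊔ K := fun g => by
    have := Subgroup.div_mem _ (hbg g) (Subgroup.mem_sup_left (T := K) (hchg g b hb))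
    rwa [mul_div_cancel_right] at this
  obtain ⟨c, hc, hcg, -⟩ := exists_inner (center_isPGroup h hPT) act Sy hSi K hinvK d hmul hdS (F1 ⊔ K) hdN
  obtain ⟨f₁, hf₁, k, hk, rfl⟩ := Subgroup.mem_sup.1 hc
  have hk' : act ⟨l, hl⟩ (f₁ * k) / (f₁ * k) ∈ K := by
    rw [map_mul, hf₁, mul_div_mul_left_eq_div]
    exact K.div_mem (hinvK _ k hk) hk
  have := K.div_mem (hcg ⟨l, hl⟩) hk'
  rw [mul_div_cancel_right] at this
  exact (hd ⟨l, hl⟩).one_of_mem hPS hy.1 this

/-- The maps of `E` are good on every subgroup. -/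
theorem all_good (h : Setting p F E) (hp2 : p ≠ 2) {y : Ω} (hy : y ∈ centralizerIn S T) (hT : HomGood F E y T)
    (htop : ∀ α ∈ E.autGroup (topCore p T), Ext F (topCore p T) y α 1) :
    ∀ Q, HomGood F E y Q := by
  haveI := h.finT
  set kk : Subgroup Ω → ℕ := key p (Nat.card T) with hkk
  suffices H : ∀ n, ∀ Q ≤ T, kk T - kk Q < n → HomGood F E y Q from
    fun Q φ hφ => H _ Q (hom_le E hφ) (Nat.lt_succ_self _) hφ
  intro n
  induction n with
  | zero => exact fun Q _ hn => absurd hn (Nat.not_lt_zero _)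
  | succ n ihn =>
    set k := kk T - n
    have hout : ∀ Q ≤ T, k < kk Q → HomGood F E y Q := fun Q hQ hlt => ihn Q hQ (by
      have := key_mono (p := p) hQ (le_refl T); simp only [k, hkk] at *; omega)
    let D : FusionSystem T :=
      { Hom := fun P => {φ | φ ∈ E.Hom P ∧ (k ≤ kk P → φ ∈ F.centralizerHom (Subgroup.zpowers y) P)}
        le_of_mem := fun hh => E.le_of_mem hh.1
        injective_of_mem := fun hh => E.injective_of_mem hh.1
        conj_mem := fun hP hg => ⟨E.conj_mem hP hg, fun _ =>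
          (centSystem F (Subgroup.zpowers_le.2 hy.1)).conj_mem (hP.trans (h.le_cent hy)) (h.le_cent hy hg)⟩
        comp_mem := fun {P Q φ ψ} h1 h2 hmem => ⟨E.comp_mem h1.1 h2.1 hmem, fun hk' =>
          (centSystem F (Subgroup.zpowers_le.2 hy.1)).comp_mem (h1.2 hk') (h2.2 (by
            refine hk'.trans ?_
            have hPT := hom_le E h1.1
            rw [hkk, ← key_range hPT (E.injective_of_mem h1.1)]
            exact key_mono (by rintro _ ⟨u, rfl⟩; exact hmem u) (hom_le E h2.1))) hmem⟩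
        inv_mem := fun {P φ} h1 => by
          obtain ⟨ψ, hψ, he⟩ := E.inv_mem h1.1
          refine ⟨ψ, ⟨hψ, fun hk' => ?_⟩, he⟩
          obtain ⟨ψ', hψ', he'⟩ := (centSystem F (Subgroup.zpowers_le.2 hy.1)).inv_mem (h1.2 (by
            refine hk'.trans (le_of_eq ?_)
            exact key_range (hom_le E h1.1) (E.injective_of_mem h1.1)))
          refine hom_congr (centSystem F (Subgroup.zpowers_le.2 hy.1)) hψ' ?_
          rintro ⟨-, x, rfl⟩
          exact (he x).trans (he' x).symm }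
    suffices key' : E ≤ D from fun Q hQ hn φ hφ => (key' Q hφ).2 (by
      have := key_mono (p := p) hQ (le_refl T); simp only [k, hkk] at *; omega)
    refine alperin_ind h.hTp h.hEsat fun P hP ih => ?_
    intro α hα
    have hPT : P ≤ T := by rcases hP with rfl | hess; exacts [le_rfl, hess.1.1]
    have hαh := (equivHom_autGroup E hPT).1 hα
    refine (equivHom_autGroup D hPT).2 ⟨hαh, fun hk => ?_⟩
    rcases hP with rfl | hess
    · exact hT hαh
    rcases lt_or_eq_of_le hk with hgt | hkeq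
    · exact hout P hPT hgt hαh
    refine Ext.good (h.le_cent hy) hPT ?_
    have hbig : ∀ Q, P < Q → HomGood F E y Q := fun Q hQ φ hφ => (ih Q hQ hφ).2
      (hkeq.le.trans (key_mono hQ.le (hom_le E hφ)))
    have hPlt := essential_lt h.hTp h.hEsat hess
    by_cases hq : ∀ t ∈ normalizerIn T P, QuadIn p P t → t ∈ P
    · obtain ⟨-, hcore, hkey⟩ := core_of_no_quad h.hTp h.hEsat hess.2.1 hq
      refine ext_of_lGroup h hess.2.1 hy (fun l hl => lGroup_good_of_no_quad h hy hess.2.1 hess.1 hq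
        (fun β hβ => core_good h hp2 hy hcore htop (fun Q hQ hlt => hout Q hQ ?_) hβ) hl)
        (fun Q hQ => hbig Q ((lt_normalizerIn h.hTp hPlt).trans_le hQ)) hα
      exact lt_of_eq_of_lt (hkeq.trans hkey.symm) hlt
    · simp only [not_forall] at hq
      obtain ⟨t, ht, hqt, htP⟩ := hq
      refine local_good h hp2 hess.2.1 (h.centric hess.1) hy (fun Q hQ => hbig Q ?_) hα
      refine lt_of_le_of_ne (fun u hu => hQ u (le_normalizerIn hPT hu) (quadIn_of_mem hu)) fun he => htP ?_
      rw [he]; exact hQ t ht hqt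

/-- The main result. -/
theorem exists_centralizing (hp2 : p ≠ 2) (h : Setting p F E)
    (hext : ∀ α ∈ E.autGroup T, ∃ β ∈ F.autGroup (T ⊔ centralizerIn S T),
      (∀ x : T, ((β (Subgroup.inclusion le_sup_left x) : ↥(T ⊔ centralizerIn S T)) : Ω) = ((α x : T) : Ω)) ∧
      ∀ c : ↥(T ⊔ centralizerIn S T), (c : Ω) ∈ centralizerIn S T →
        (c : Ω)⁻¹ * ((β c : ↥(T ⊔ centralizerIn S T)) : Ω) ∈ T ⊓ Subgroup.centralizer (T : Set Ω))
    {x : Ω} (hx : x ∈ centralizerIn S T) :
    ∃ b ∈ T, x * b ∈ centralizerIn S T ∧ ∀ Q, E.Hom Q ⊆ F.centralizerHom (Subgroup.zpowers (x * b)) Q := by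
  obtain ⟨b, hy, hT, htop⟩ := exists_stage h hext hx
  exact ⟨_, (b : T).2, hy, all_good h hp2 hy hT htop⟩

end Cfsg.Agent.Lim1
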