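import Cfsg.Agent.Lib.Fusion.Alperin
import Mathlib.GroupTheory.Sylow
import Mathlib.GroupTheory.DoubleCoset
import Mathlib.GroupTheory.QuotientGroup.Basic

/-!
# Derivations modulo a submodule, and control of fixed points for odd `p`

A finite group acts on a finite abelian `p`-group. A derivation vanishing on a Sylow subgroup is
inner, and for odd `p` the points fixed by the normalizer of the subgroup generated by the quadratic
elements of a Sylow subgroup are fixed by the whole group: a transfer argument, the norm over a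
cyclic group of order `p` of a quadratic element being trivial.
-/

set_option autoImplicit false

namespace Cfsg.Agent.Lim1

open scoped Classical Pointwise

variable {G : Type*} [Group G] {M : Type*} [CommGroup M]

/-- The change of a point under the action. -/
def chg (act : G →* MulAut M) (g : G) (v : M) : M := act g v / v

theorem chg_mul (act : G →* MulAut M) (g : G) (v w : M) :
    chg act g (v * w) = chg act g v * chg act g w := by
  simp only [chg, map_mul]
  exact mul_div_mul_comm _ _ _ _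

theorem chg_pow (act : G →* MulAut M) (g : G) (v : M) (n : ℕ) :
    chg act g (v ^ n) = chg act g v ^ n := by
  simp [chg, div_pow]

/-- An element acting quadratically on the points of order dividing `p`. -/
def Quad (p : ℕ) (act : G →* MulAut M) (x : G) : Prop :=
  ∀ v : M, v ^ p = 1 → chg act x (chg act x v) = 1

theorem act_pow_of_quad {p : ℕ} {act : G →* MulAut M} {x : G} (hx : Quad p act x) {v : M} (hv : v ^ p = 1)
    (n : ℕ) : act (x ^ n) v = v * chg act x v ^ n := by
  induction n with
  | zero => simp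
  | succ n ih =>
    have h2 : act x (chg act x v) = chg act x v := by
      have := hx v hv
      rwa [chg, div_eq_one] at this
    have h1 : act x v = v * chg act x v := by rw [chg, mul_div_cancel]
    rw [pow_succ', map_mul, MulAut.mul_apply, ih, map_mul, map_pow, h2, pow_succ', h1, mul_assoc]

theorem Quad.pow {p : ℕ} {act : G →* MulAut M} {x : G} (hx : Quad p act x) (n : ℕ) : Quad p act (x ^ n) := by
  intro v hv
  have h1 : chg act (x ^ n) v = chg act x v ^ n := by
    rw [chg, act_pow_of_quad hx hv, mul_div_cancel_left]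
  have hd : chg act x v ^ p = 1 := by rw [← chg_pow, hv, chg, map_one, div_one]
  rw [h1, chg_pow, chg, act_pow_of_quad hx hd, mul_div_cancel_left, hx v hv, one_pow, one_pow]

/-! ### Derivations modulo a submodule -/

variable [Finite G] [Finite M] {p : ℕ} [hp : Fact p.Prime]

/-- The root of exponent prime to `p`. -/
theorem exists_root (hM : IsPGroup p M) {n : ℕ} (hn : ¬ p ∣ n) :
    Function.Bijective (fun v : M => v ^ n) := by
  obtain ⟨m, hm⟩ := IsPGroup.iff_card.1 hM
  exact (powCoprime (G := M) (n := n) (by rw [hm]; exact ((hp.out.coprime_iff_not_dvd.2 hn).pow_left m))).bijective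

theorem mem_of_pow_mem_coprime (hM : IsPGroup p M) {n : ℕ} (hn : ¬ p ∣ n) {N : Subgroup M} {v : M}
    (hv : v ^ n ∈ N) : v ∈ N := by
  obtain ⟨⟨w, hw⟩, he⟩ := (exists_root (M := N) (hM.to_subgroup N) hn).2 ⟨v ^ n, hv⟩
  have : w = v := (exists_root hM hn).1 (congrArg Subtype.val he)
  exact this ▸ hw

/-- A derivation modulo `N`, trivial on a subgroup `S` of index prime to `p`, is inner modulo `N`. If it is
exactly equivariant for `S`, then the point is fixed exactly by `S`. -/
theorem exists_inner (hM : IsPGroup p M) (act : G →* MulAut M) (S : Subgroup G) (hS : ¬ p ∣ S.index)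
    (N : Subgroup M) (hN : ∀ g, ∀ v ∈ N, act g v ∈ N) (f : G → M)
    (hmul : ∀ g h, (f g * act g (f h)) / f (g * h) ∈ N) (hfS : ∀ s ∈ S, f s ∈ N)
    (B : Subgroup M) (hB : ∀ g, f g ∈ B) :
    ∃ b ∈ B, (∀ g, f g * (act g b / b) ∈ N) ∧
      ((∀ g, ∀ s ∈ S, f (g * s) = f g) → (∀ g, ∀ s ∈ S, f (s * g) = act s (f g)) →
        ∀ s ∈ S, act s b = b) := by
  haveI : Fintype (G ⧸ S) := Fintype.ofFinite _
  set n := Fintype.card (G ⧸ S) with hn_def
  have hn : ¬ p ∣ n := by rwa [hn_def, ← Nat.card_eq_fintype_card, ← Subgroup.index_eq_card]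
  set P : M := ∏ c : G ⧸ S, f c.out with hP
  obtain ⟨⟨b, hbB⟩, hb⟩ := (exists_root (M := B) (hM.to_subgroup B) hn).2 ⟨P, Subgroup.prod_mem _ fun c _ => hB _⟩
  have hbP : b ^ n = P := congrArg Subtype.val hb
  have key : ∀ g, f g ^ n * (act g P / P) ∈ N := by
    intro g
    -- compare `g` times the chosen representative with the representative of the product
    have hc : ∀ c : G ⧸ S, f (g * c.out) / f (g • c).out ∈ N := by
      intro c
      obtain ⟨s, hs⟩ := QuotientGroup.mk_out_eq_mul S (g * c.out)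
      have hgc : (QuotientGroup.mk (g * c.out) : G ⧸ S) = g • c := by
        conv_rhs => rw [← QuotientGroup.out_eq' c]
        rfl
      rw [hgc] at hs
      rw [hs]
      have h1 := hmul (g * c.out) s
      have h2 : act (g * c.out) (f s) ∈ N := hN _ _ (hfS _ s.2)
      have := N.mul_mem h1 (N.inv_mem h2)
      convert this using 1
      rw [div_eq_mul_inv, div_eq_mul_inv]
      rw [mul_right_comm, mul_inv_cancel_right]
    have h1 : ∏ c : G ⧸ S, ((f g * act g (f c.out)) / f (g * c.out) * (f (g * c.out) / f (g • c).out)) ∈ N :=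
      Subgroup.prod_mem _ fun c _ => N.mul_mem (hmul g _) (hc c)
    convert h1 using 1
    rw [Finset.prod_congr rfl (fun c _ => div_mul_div_cancel (f g * act g (f c.out)) _ (f (g • c).out)),
      Finset.prod_div_distrib, Finset.prod_mul_distrib, Finset.prod_const, ← map_prod, Finset.card_univ,
      mul_div_assoc]
    refine congrArg (fun u => f g ^ n * (act g P / u)) ?_
    exact (Fintype.prod_equiv (MulAction.toPerm g) _ _ fun c => rfl).symm
  refine ⟨b, hbB, fun g => mem_of_pow_mem_coprime hM hn ?_, fun hr hl s hs => (exists_root hM hn).1 ?_⟩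
  · rw [mul_pow, div_pow, ← map_pow, hbP]
    exact key g
  · show act s b ^ n = b ^ n
    rw [← map_pow, hbP, hP, map_prod]
    refine Fintype.prod_equiv (MulAction.toPerm s) _ _ fun c => ?_
    rw [← hl _ s hs]
    obtain ⟨t, ht⟩ := QuotientGroup.mk_out_eq_mul S (s * c.out)
    have hsc : (QuotientGroup.mk (s * c.out) : G ⧸ S) = s • c := by
      conv_rhs => rw [← QuotientGroup.out_eq' c]
      rfl
    rw [hsc] at ht
    show f (s * c.out) = f (s • c).out
    rw [ht, hr _ _ t.2]

/-! ### Control of fixed points -/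

/-- The quadratic elements of `S`. -/
def quadSet (p : ℕ) (act : G →* MulAut M) (S : Subgroup G) : Set G := {x | x ∈ S ∧ Quad p act x}

theorem control_base (hp2 : p ≠ 2) {Q : Type*} [CommGroup Q] (hQ : ∀ v : Q, v ^ p = 1) (actQ : G →* MulAut Q)
    {S : Subgroup G} (hSp : IsPGroup p S) (hSi : ¬ p ∣ S.index) {H : Subgroup G}
    (hW : ∀ g : G, (∀ w ∈ Subgroup.closure (quadSet p actQ S), g * w * g⁻¹ ∈ Subgroup.closure (quadSet p actQ S)) →
      g ∈ H)
    (hSH : S ≤ H)
    (c : Q) (hc : ∀ h ∈ H, actQ h c = c) (g : G) : actQ g c = c := by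
  haveI : Fintype (G ⧸ H) := Fintype.ofFinite _
  set φ : G ⧸ H → Q := fun d => actQ d.out c with hφ
  have hφmk : ∀ g : G, φ (QuotientGroup.mk g) = actQ g c := by
    intro g
    obtain ⟨h, hh⟩ := QuotientGroup.mk_out_eq_mul H g
    show actQ (QuotientGroup.mk g : G ⧸ H).out c = _
    rw [hh, map_mul, MulAut.mul_apply, hc _ h.2]
  have hφs : ∀ (s : G) (d : G ⧸ H), φ (s • d) = actQ s (φ d) := by
    intro s d
    obtain ⟨a, rfl⟩ := QuotientGroup.mk_surjective d
    show φ (QuotientGroup.mk (s * a)) = _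
    rw [hφmk, hφmk, map_mul, MulAut.mul_apply]
  -- the product over an orbit
  let orb : Subgroup G → G ⧸ H → Finset (G ⧸ H) := fun U d =>
    Finset.univ.filter fun e => ∃ u ∈ U, u • d = e
  have horb : ∀ (U U' : Subgroup G) (d : G ⧸ H) {ι : Type} [Fintype ι] (r : ι → G),
      U ≤ U' → (∀ i, r i ∈ U') → (∀ u ∈ U', ∃ i, ∃ v ∈ U, u = r i * v) →
      (∀ i j, ∀ v ∈ U, r i = r j * v → i = j) → (∀ u ∈ U', u • d = d → u ∈ U) →
      ∏ e ∈ orb U' d, φ e = ∏ i, actQ (r i) (∏ e ∈ orb U d, φ e) := by
    intro U U' d ι _ r hUU hr hsur hinj hst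
    have hprod : ∀ i, actQ (r i) (∏ e ∈ orb U d, φ e) = ∏ e ∈ orb U d, φ (r i • e) := fun i => by
      rw [map_prod]; exact Finset.prod_congr rfl fun e _ => (hφs _ _).symm
    rw [Finset.prod_congr rfl fun i _ => hprod i, ← Finset.prod_product']
    refine (Finset.prod_bij (fun x _ => r x.1 • x.2) ?_ ?_ ?_ fun x _ => rfl).symm
    · rintro ⟨i, e⟩ hx
      obtain ⟨u, hu, rfl⟩ := (Finset.mem_filter.1 (Finset.mem_product.1 hx).2).2
      exact Finset.mem_filter.2 ⟨Finset.mem_univ _, r i * u, U'.mul_mem (hr i) (hUU hu), mul_smul _ _ _⟩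
    · rintro ⟨i, e⟩ hx ⟨j, e'⟩ hy he
      obtain ⟨u, hu, rfl⟩ := (Finset.mem_filter.1 (Finset.mem_product.1 hx).2).2
      obtain ⟨v, hv, rfl⟩ := (Finset.mem_filter.1 (Finset.mem_product.1 hy).2).2
      simp only at he
      have h1 : ((r j * v)⁻¹ * (r i * u)) • d = d := by
        rw [mul_smul, inv_smul_eq_iff, mul_smul, mul_smul, he]
      have h2 := hst _ (U'.mul_mem (U'.inv_mem (U'.mul_mem (hr j) (hUU hv))) (U'.mul_mem (hr i) (hUU hu))) h1
      have hij : i = j := hinj i j (v * ((r j * v)⁻¹ * (r i * u)) * u⁻¹)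
        (U.mul_mem (U.mul_mem hv h2) (U.inv_mem hu)) (by group)
      subst hij
      exact Prod.ext rfl (by simpa using he)
    · intro e he
      obtain ⟨u, hu, rfl⟩ := (Finset.mem_filter.1 he).2
      obtain ⟨i, v, hv, rfl⟩ := hsur u hu
      exact ⟨(i, v • d), Finset.mem_product.2 ⟨Finset.mem_univ _,
        Finset.mem_filter.2 ⟨Finset.mem_univ _, v, hv, rfl⟩⟩, (mul_smul _ _ _).symm⟩
  -- every orbit other than the fixed coset has trivial product
  have hzero : ∀ d : G ⧸ H, d ≠ (QuotientGroup.mk 1 : G ⧸ H) → ∏ e ∈ orb S d, φ e = 1 := by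
    intro d hd
    obtain ⟨a, rfl⟩ := QuotientGroup.mk_surjective d
    set W := Subgroup.closure (quadSet p actQ S) with hWdef
    have hnot : ¬ ∀ x ∈ quadSet p actQ S, x • (QuotientGroup.mk a : G ⧸ H) = QuotientGroup.mk a := by
      intro hall
      apply hd
      have hWH : ∀ w ∈ W, a⁻¹ * w * a ∈ H := by
        have : W ≤ H.comap (MulAut.conj a⁻¹).toMonoidHom := (Subgroup.closure_le _).2 fun x hx => by
          have := QuotientGroup.eq.1 (hall x hx).symm
          simpa [mul_assoc] using this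
        intro w hw
        have := this hw
        simpa using this
      set W' := W.map (MulAut.conj a⁻¹).toMonoidHom with hW'
      have hW'H : W' ≤ H := by
        rintro _ ⟨w, hw, rfl⟩
        simpa using hWH w hw
      have hWS : W ≤ S := (Subgroup.closure_le _).2 fun x hx => hx.1
      have hW'p : IsPGroup p (W'.subgroupOf H) := by
        refine IsPGroup.of_equiv ?_ (Subgroup.subgroupOfEquivOfLe hW'H).symm
        exact (hSp.to_le hWS).map _
      have hSHp : ¬ p ∣ (S.subgroupOf H).index := fun h => hSi (h.trans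
        (Dvd.intro _ (Subgroup.relIndex_mul_index hSH)))
      obtain ⟨P0, hP0⟩ := hW'p.exists_le_sylow
      let SH : Sylow p H := (IsPGroup.of_equiv hSp (Subgroup.subgroupOfEquivOfLe hSH).symm).toSylow hSHp
      obtain ⟨h, hh⟩ := MulAction.exists_smul_eq H P0 SH
      have hin : ∀ w ∈ W, ((h : G) * a⁻¹) * w * ((h : G) * a⁻¹)⁻¹ ∈ S := by
        intro w hw
        have hm : (⟨a⁻¹ * w * a, hWH w hw⟩ : H) ∈ (P0 : Subgroup H) :=
          hP0 (show a⁻¹ * w * a ∈ W' from ⟨w, hw, by simp⟩)
        have hmem : h * ⟨a⁻¹ * w * a, hWH w hw⟩ * h⁻¹ ∈ ((h • P0 : Sylow p H) : Subgroup H) := by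
          rw [Sylow.coe_subgroup_smul]
          exact Subgroup.smul_mem_pointwise_smul _ (MulAut.conj h) _ hm
        rw [hh] at hmem
        have := Subgroup.mem_subgroupOf.1 hmem
        simpa [mul_assoc] using this
      have hgH : (h : G) * a⁻¹ ∈ H := by
        refine hW _ ?_
        have hle : W ≤ W.comap (MulAut.conj ((h : G) * a⁻¹)).toMonoidHom := by
          refine (Subgroup.closure_le _).2 fun x hx => ?_
          refine Subgroup.subset_closure ⟨hin x (Subgroup.subset_closure hx), fun v hv => ?_⟩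
          set k := (h : G) * a⁻¹
          have hk : ∀ u : Q, chg actQ (k * x * k⁻¹) u = actQ k (chg actQ x (actQ k⁻¹ u)) := fun u => by
            simp only [chg, map_mul, map_inv, MulAut.mul_apply, map_div, MulAut.apply_inv_self]
          simp only [MulEquiv.coe_toMonoidHom, MulAut.conj_apply]
          rw [hk, hk, map_inv, MulAut.inv_apply_self, hx.2 _ (by rw [← map_pow, hv, map_one]), map_one]
        intro w hw
        exact hle hw
      refine QuotientGroup.eq.2 ?_
      have := H.mul_mem (H.inv_mem h.2) hgH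
      simpa using this
    set d := (QuotientGroup.mk a : G ⧸ H) with hd_def
    -- a subgroup above the stabilizer with no further quadratic element
    set Q0 := S ⊓ MulAction.stabilizer G d with hQ0
    obtain ⟨Q1, ⟨hQ01, hQ1S, hQ1X⟩, hmax⟩ := Set.exists_max_image
      {U : Subgroup G | Q0 ≤ U ∧ U ≤ S ∧ ∀ x ∈ quadSet p actQ S, x ∈ U → x ∈ Q0} (fun U => Nat.card U)
      (Set.toFinite _) ⟨Q0, le_rfl, inf_le_left, fun x _ h => h⟩
    have hlt : Q1 < S := by
      refine lt_of_le_of_ne hQ1S fun he => hnot fun x hx => ?_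
      exact (hQ1X x hx (he ▸ hx.1)).2
    haveI : Finite S := inferInstance
    have hN := Cfsg.Agent.FusionSys.lt_normalizerIn (p := p) hSp hlt
    obtain ⟨x, hx, hxN, hxQ1⟩ : ∃ x ∈ quadSet p actQ S,
        x ∈ FusionSystem.normalizerIn S Q1 ∧ x ∉ Q1 := by
      by_contra hall
      simp only [not_exists, not_and, not_not] at hall
      exact (lt_of_lt_of_le (by
          refine lt_of_le_of_ne (Subgroup.card_le_of_le hN.le) fun he => hN.ne (Subgroup.eq_of_le_of_card_ge hN.le he.ge))
        (hmax (FusionSystem.normalizerIn S Q1) ⟨hQ01.trans hN.le, inf_le_left,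
          fun x hx h => hQ1X x hx (hall x hx h)⟩)).false
    -- an element of order `p` modulo `Q1`
    obtain ⟨m, hm⟩ := hSp ⟨x, hx.1⟩
    have hex : ∃ k, x ^ p ^ k ∈ Q1 := ⟨m, by
      have := congrArg Subtype.val hm
      rw [SubgroupClass.coe_pow] at this
      simp only [Subgroup.coe_one] at this
      rw [this]; exact Q1.one_mem⟩
    obtain ⟨k, hk⟩ : ∃ k, Nat.find hex = k + 1 := Nat.exists_eq_succ_of_ne_zero fun h0 => by
      have := Nat.find_spec hex
      rw [h0, pow_zero, pow_one] at this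
      exact hxQ1 this
    set y := x ^ p ^ k with hy
    have hyQ1 : y ∉ Q1 := Nat.find_min hex (by omega)
    have hyp : y ^ p ∈ Q1 := by
      have := Nat.find_spec hex
      rw [hk, pow_succ, pow_mul] at this
      exact this
    have hyS : y ∈ S := S.pow_mem hx.1 _
    have hyN : y ∈ Subgroup.normalizer (Q1 : Set G) := Subgroup.pow_mem _ hxN.2 _
    have hyq : Quad p actQ y := hx.2.pow _
    set Q2 := Q1 ⊔ Subgroup.zpowers y with hQ2
    have hQ2S : Q2 ≤ S := sup_le hQ1S (Subgroup.zpowers_le.2 hyS)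
    -- cosets of `Q1` in `Q2`
    have hsur : ∀ u ∈ Q2, ∃ i : Fin p, ∃ v ∈ Q1, u = y ^ (i : ℕ) * v := by
      intro u hu
      have : u ∈ ((Subgroup.zpowers y : Set G) * (Q1 : Set G)) := by
        rw [← Subgroup.coe_mul_of_left_le_normalizer_right _ _ (Subgroup.zpowers_le.2 hyN)]
        rwa [hQ2, sup_comm] at hu
      obtain ⟨_, ⟨j, rfl⟩, v, hv, rfl⟩ := this
      refine ⟨⟨(j % (p : ℤ)).toNat, ?_⟩, y ^ ((p : ℤ) * (j / p)) * v, Q1.mul_mem ?_ hv, ?_⟩
      · have := Int.emod_lt_of_pos j (by exact_mod_cast hp.out.pos : (0 : ℤ) < p)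
        have := Int.emod_nonneg j (by exact_mod_cast hp.out.ne_zero : (p : ℤ) ≠ 0)
        omega
      · rw [zpow_mul, zpow_natCast]; exact Q1.zpow_mem hyp _
      · show y ^ j * v = _
        rw [← zpow_natCast, Int.toNat_of_nonneg (Int.emod_nonneg j (by exact_mod_cast hp.out.ne_zero)),
          ← mul_assoc, ← zpow_add, Int.emod_add_mul_ediv]
    have hinj : ∀ i j : Fin p, ∀ v ∈ Q1, y ^ (i : ℕ) = y ^ (j : ℕ) * v → i = j := by
      intro i j v hv he
      by_contra hij
      have hmem : y ^ ((i : ℤ) - (j : ℤ)) ∈ Q1 := by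
        rw [zpow_sub, zpow_natCast, zpow_natCast, he]
        have := (Subgroup.mem_normalizer_iff.1 (Subgroup.pow_mem _ hyN (j : ℕ)) v).1 hv
        simpa [mul_assoc] using this
      have hcop : Int.gcd ((i : ℤ) - j) p = 1 := by
        have hne : ((i : ℤ) - j) ≠ 0 := by
          intro h; apply hij; apply Fin.ext; omega
        have hlt' : ((i : ℤ) - j).natAbs < p := by have := i.2; have := j.2; omega
        have hc : Nat.Coprime p ((i : ℤ) - j).natAbs := hp.out.coprime_iff_not_dvd.2 fun h =>
          absurd (Nat.le_of_dvd (Int.natAbs_pos.2 hne) h) (not_le.2 hlt')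
        simpa [Int.gcd] using hc.symm
      apply hyQ1
      have hbez := Int.gcd_eq_gcd_ab ((i : ℤ) - j) p
      rw [hcop] at hbez
      have : y ^ (((1 : ℕ) : ℤ)) ∈ Q1 := by
        rw [hbez, zpow_add, zpow_mul, zpow_mul, zpow_natCast]
        exact Q1.mul_mem (Q1.zpow_mem hmem _) (Q1.zpow_mem hyp _)
      simpa using this
    have hst : ∀ u ∈ S, u • d = d → u ∈ Q1 := fun u hu hud => hQ01 ⟨hu, hud⟩
    have hP2 : ∏ e ∈ orb Q2 d, φ e = 1 := by
      rw [horb Q1 Q2 d (fun i : Fin p => y ^ (i : ℕ)) le_sup_left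
        (fun i => Subgroup.mem_sup_right (Subgroup.pow_mem _ (Subgroup.mem_zpowers y) _)) hsur hinj
        (fun u hu hud => hst u (hQ2S hu) hud)]
      set v := ∏ e ∈ orb Q1 d, φ e
      simp only [act_pow_of_quad hyq (hQ v)]
      rw [Finset.prod_mul_distrib, Finset.prod_const, Finset.card_univ, Fintype.card_fin, hQ, one_mul,
        Finset.prod_pow_eq_pow_sum, Fin.sum_univ_eq_sum_range (fun i => i)]
      have hdvd : p ∣ ∑ i ∈ Finset.range p, i := by
        have h2 := Finset.sum_range_id_mul_two p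
        rcases (Nat.Prime.dvd_mul hp.out).1 (show p ∣ (∑ i ∈ Finset.range p, i) * 2 from h2 ▸ dvd_mul_right _ _) with
          h | h
        · exact h
        · exact absurd ((Nat.prime_dvd_prime_iff_eq hp.out Nat.prime_two).1 h) hp2
      obtain ⟨t, ht⟩ := hdvd
      rw [ht, pow_mul, hQ, one_pow]
    haveI : Fintype (↥S ⧸ Q2.subgroupOf S) := Fintype.ofFinite _
    obtain ⟨m', ⟨eq'⟩⟩ := Finite.exists_equiv_fin (↥S ⧸ Q2.subgroupOf S)
    rw [horb Q2 S d (fun i : Fin m' => ((eq'.symm i).out : G)) hQ2S (fun i => (eq'.symm i).out.2) ?_ ?_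
      (fun u hu hud => Subgroup.mem_sup_left (hst u hu hud))]
    · rw [hP2]; simp
    · intro u hu
      obtain ⟨v, hv⟩ := QuotientGroup.mk_out_eq_mul (Q2.subgroupOf S) ⟨u, hu⟩
      refine ⟨eq' (QuotientGroup.mk ⟨u, hu⟩), ((v : S) : G)⁻¹, Q2.inv_mem v.2, ?_⟩
      rw [Equiv.symm_apply_apply, hv]
      simp
    · intro i j v hv he
      apply eq'.symm.injective
      rw [← QuotientGroup.out_eq' (eq'.symm i), ← QuotientGroup.out_eq' (eq'.symm j)]
      refine QuotientGroup.eq.2 (Subgroup.mem_subgroupOf.2 ?_)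
      rw [Subgroup.coe_mul, Subgroup.coe_inv, he]
      simpa using Q2.inv_mem hv
  -- the product over all cosets
  set one' := (QuotientGroup.mk 1 : G ⧸ H)
  have hall : ∏ d, φ d = c := by
    let o : G ⧸ H → Finset (G ⧸ H) := orb S
    rw [← Finset.prod_fiberwise_of_maps_to (g := o) (t := Finset.univ.image o)
      (fun d _ => Finset.mem_image_of_mem _ (Finset.mem_univ d)) φ]
    have hfib : ∀ d, (Finset.univ.filter fun e => o e = o d) = o d := by
      intro d
      ext e
      simp only [Finset.mem_filter, Finset.mem_univ, true_and]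
      have hself : ∀ d, d ∈ o d := fun d => Finset.mem_filter.2 ⟨Finset.mem_univ _, 1, S.one_mem, one_smul _ _⟩
      refine ⟨fun h => h ▸ hself e, fun h => ?_⟩
      obtain ⟨u, hu, rfl⟩ := (Finset.mem_filter.1 h).2
      ext f
      simp only [o, orb, Finset.mem_filter, Finset.mem_univ, true_and]
      constructor
      · rintro ⟨v, hv, rfl⟩; exact ⟨v * u, S.mul_mem hv hu, mul_smul _ _ _⟩
      · rintro ⟨v, hv, rfl⟩; exact ⟨v * u⁻¹, S.mul_mem hv (S.inv_mem hu), by rw [mul_smul, inv_smul_smul]⟩
    have hone : o one' = {one'} := by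
      ext e
      simp only [o, orb, Finset.mem_filter, Finset.mem_univ, true_and, Finset.mem_singleton]
      refine ⟨?_, fun h => ⟨1, S.one_mem, by rw [one_smul, h]⟩⟩
      rintro ⟨u, hu, rfl⟩
      exact QuotientGroup.eq.2 (by simpa using H.inv_mem (hSH hu))
    rw [Finset.prod_eq_single_of_mem (o one') (Finset.mem_image_of_mem _ (Finset.mem_univ _))]
    · rw [hfib, hone, Finset.prod_singleton, hφmk, map_one]; rfl
    · intro s hs hne
      obtain ⟨d, -, rfl⟩ := Finset.mem_image.1 hs
      rw [hfib]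
      exact hzero d fun h => hne (by rw [h])
  rw [← hall, map_prod]
  exact Fintype.prod_equiv (MulAction.toPerm g) _ _ fun d => (hφs g d).symm

/-- For odd `p`, a point fixed modulo `N` by `H ≥ N_G(⟨quadratic elements⟩)` is fixed by `G` modulo `N`. -/
theorem control (hp2 : p ≠ 2) (hM : IsPGroup p M) (act : G →* MulAut M) {S : Subgroup G} (hSp : IsPGroup p S)
    (hSi : ¬ p ∣ S.index) {H : Subgroup G} (hSH : S ≤ H)
    (hW : ∀ g : G, (∀ w ∈ Subgroup.closure (quadSet p act S), g * w * g⁻¹ ∈ Subgroup.closure (quadSet p act S)) →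
      g ∈ H)
    (N : Subgroup M) (hN : ∀ g, ∀ v ∈ N, act g v ∈ N)
    (c : M) (hc : ∀ h ∈ H, chg act h c ∈ N) (g : G) : chg act g c ∈ N := by
  obtain ⟨m, hm⟩ := IsPGroup.iff_card.1 hM
  -- induction on the exponent of `c` modulo `N`
  suffices key : ∀ k, ∀ c : M, c ^ p ^ k = 1 → ∀ (c' : M), c' / c ∈ N → (∀ h ∈ H, chg act h c' ∈ N) →
      ∀ g, chg act g c' ∈ N from
    key m c (by rw [← hm]; exact pow_card_eq_one') c (by rw [div_self']; exact N.one_mem) hc g
  intro k
  induction k with
  | zero =>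
    intro c h1 c' hcc _ g
    rw [pow_zero, pow_one] at h1
    subst h1
    rw [div_one] at hcc
    exact N.div_mem (hN g _ hcc) hcc
  | succ k ih =>
    intro c hck c' hcc hfix
    -- `M₀ = {v | v ^ p ^ k = 1} N`
    set T0 := (powMonoidHom (p ^ k) : M →* M).ker with hT0
    set T1 := (powMonoidHom (p ^ (k + 1)) : M →* M).ker with hT1
    set N0 := N ⊔ T0 with hN0
    set M1 := N ⊔ T1 with hM1
    have hT : ∀ (j : ℕ) g, ∀ v ∈ (powMonoidHom (p ^ j) : M →* M).ker, act g v ∈ (powMonoidHom (p ^ j) : M →* M).ker := by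
      intro j g v hv
      simp only [MonoidHom.mem_ker, powMonoidHom_apply] at hv ⊢
      rw [← map_pow, hv, map_one]
    have hsup : ∀ (j : ℕ) g, ∀ v ∈ N ⊔ (powMonoidHom (p ^ j) : M →* M).ker,
        act g v ∈ N ⊔ (powMonoidHom (p ^ j) : M →* M).ker := by
      intro j g v hv
      obtain ⟨a, ha, b, hb, rfl⟩ := Subgroup.mem_sup.1 hv
      rw [map_mul]
      exact Subgroup.mul_mem_sup (hN g a ha) (hT j g b hb)
    -- the action on `M₁ / N₀`
    let L := N0.subgroupOf M1
    have hp1 : ∀ v : ↥M1 ⧸ L, v ^ p = 1 := by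
      intro v
      obtain ⟨⟨w, hw⟩, rfl⟩ := QuotientGroup.mk_surjective v
      obtain ⟨a, ha, b, hb, rfl⟩ := Subgroup.mem_sup.1 hw
      rw [← QuotientGroup.mk_pow, QuotientGroup.eq_one_iff, Subgroup.mem_subgroupOf, SubgroupClass.coe_pow, mul_pow]
      refine Subgroup.mul_mem_sup (N.pow_mem ha _) ?_
      simp only [hT1, hT0, MonoidHom.mem_ker, powMonoidHom_apply] at hb ⊢
      rw [← pow_mul, ← pow_succ', hb]
    let res : G → MulAut M1 := fun g =>
      { toFun := fun v => ⟨act g v, hsup _ g _ v.2⟩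
        invFun := fun v => ⟨act g⁻¹ v, hsup _ _ _ v.2⟩
        left_inv := fun v => Subtype.ext (by simp)
        right_inv := fun v => Subtype.ext (by simp)
        map_mul' := fun v w => Subtype.ext (map_mul _ _ _) }
    have hres : ∀ g, L.map (res g : ↥M1 →* ↥M1) = L := by
      intro g
      ext v
      constructor
      · rintro ⟨w, hw, rfl⟩
        exact hsup _ g _ hw
      · intro hv
        exact ⟨(res g).symm v, hsup _ g⁻¹ _ hv, (res g).apply_symm_apply v⟩
    let actQ : G →* MulAut (↥M1 ⧸ L) :=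
      { toFun := fun g => QuotientGroup.congr L L (res g) (hres g)
        map_one' := MulEquiv.ext fun v => by
          obtain ⟨w, rfl⟩ := QuotientGroup.mk_surjective v
          exact congrArg QuotientGroup.mk (Subtype.ext (by simp [res]))
        map_mul' := fun a b => MulEquiv.ext fun v => by
          obtain ⟨w, rfl⟩ := QuotientGroup.mk_surjective v
          exact congrArg QuotientGroup.mk (Subtype.ext (by simp [res])) }
    have hquad : quadSet p act S ⊆ quadSet p actQ S := by
      rintro x ⟨hxS, hx⟩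
      refine ⟨hxS, fun v _ => ?_⟩
      obtain ⟨⟨w, hw⟩, rfl⟩ := QuotientGroup.mk_surjective v
      show (QuotientGroup.mk (res x (res x ⟨w, hw⟩ / ⟨w, hw⟩) / (res x ⟨w, hw⟩ / ⟨w, hw⟩)) : ↥M1 ⧸ L) = 1
      rw [QuotientGroup.eq_one_iff, Subgroup.mem_subgroupOf]
      show chg act x (chg act x w) ∈ N0
      obtain ⟨a, ha, b, hb, rfl⟩ := Subgroup.mem_sup.1 hw
      rw [chg_mul, chg_mul]
      refine Subgroup.mul_mem_sup (N.div_mem (hN x _ ?_) ?_) ?_
      · exact N.div_mem (hN x _ ha) ha
      · exact N.div_mem (hN x _ ha) ha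
      · simp only [hT1, hT0, MonoidHom.mem_ker, powMonoidHom_apply] at hb ⊢
        rw [← chg_pow, ← chg_pow]
        exact hx _ (by rw [← pow_mul, ← pow_succ, hb])
    have hWQ : ∀ g : G, (∀ w ∈ Subgroup.closure (quadSet p actQ S), g * w * g⁻¹ ∈ Subgroup.closure (quadSet p actQ S)) →
        g ∈ H := by
      intro g hg
      refine hW g fun w hw => ?_
      have hle : Subgroup.closure (quadSet p act S) ≤
          (Subgroup.closure (quadSet p act S)).comap (MulAut.conj g).toMonoidHom := by
        refine (Subgroup.closure_le _).2 fun x hx => ?_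
        have h1 := hg x (Subgroup.subset_closure (hquad hx))
        refine Subgroup.subset_closure ⟨((Subgroup.closure_le _).2 fun z hz => hz.1) h1, fun v hv => ?_⟩
        have hk : ∀ u : M, chg act (g * x * g⁻¹) u = act g (chg act x (act g⁻¹ u)) := fun u => by
          simp only [chg, map_mul, map_inv, MulAut.mul_apply, map_div, MulAut.apply_inv_self]
        simp only [MulEquiv.coe_toMonoidHom, MulAut.conj_apply]
        rw [hk, hk, map_inv, MulAut.inv_apply_self, hx.2 _ (by rw [← map_pow, hv, map_one]), map_one]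
      exact hle hw
    have hcM : c' ∈ M1 := by
      rw [← div_mul_cancel c' c]
      exact Subgroup.mul_mem_sup hcc (by simpa [hT1] using hck)
    have hb := control_base hp2 hp1 actQ hSp hSi hWQ hSH (QuotientGroup.mk ⟨c', hcM⟩) fun h hh => by
      show (QuotientGroup.mk (res h ⟨c', hcM⟩) : ↥M1 ⧸ L) = _
      rw [eq_comm, QuotientGroup.eq, Subgroup.mem_subgroupOf]
      have : act h c' / c' ∈ N0 := Subgroup.mem_sup_left (hfix h hh)
      rw [div_eq_inv_mul] at this
      exact this
    -- the derivation into `M₀`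
    have hd : ∀ g, chg act g c' ∈ N0 := by
      intro g
      have := hb g
      change (QuotientGroup.mk (res g ⟨c', hcM⟩) : ↥M1 ⧸ L) = _ at this
      rw [eq_comm, QuotientGroup.eq, Subgroup.mem_subgroupOf] at this
      rw [chg, div_eq_inv_mul]
      exact this
    obtain ⟨b, hbN, hbg, -⟩ := exists_inner hM act S hSi N hN (fun g => chg act g c')
      (fun g h => by
        convert N.one_mem using 1
        simp only [chg, map_div, map_mul, MulAut.mul_apply]
        rw [mul_comm (act g c' / c'), div_mul_div_cancel, div_self'])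
      (fun s hs => hfix s (hSH hs)) N0 hd
    obtain ⟨a, ha, b', hb', rfl⟩ := Subgroup.mem_sup.1 hbN
    have hbH : ∀ h ∈ H, chg act h (a * b') ∈ N := fun h hh => by
      have := N.mul_mem (N.inv_mem (hfix h hh)) (hbg h)
      rwa [inv_mul_cancel_left] at this
    intro g
    have h2 := ih b' (by simpa [hT0] using hb') (a * b') (by simpa using ha) hbH g
    have := N.div_mem (hbg g) h2
    rwa [show act g (a * b') / (a * b') = chg act g (a * b') from rfl, mul_div_cancel_right] at this

end Cfsg.Agent.Lim1
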