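import Cfsg.Agent.Lib.Lim1.Top

/-!
# The element centralizing `T` and the automorphisms of `T` and of `J(T) C_T(J(T))`
-/

set_option autoImplicit false
set_option linter.unusedSectionVars false
set_option linter.style.haveILetI false

namespace Cfsg.Agent.Lim1

open Cfsg Cfsg.FusionSystem Cfsg.Agent.FusionSys Cfsg.Agent.FusionSys.FocCent
open scoped IsMulCommutative

variable {Ω : Type*} [Group Ω] {S T : Subgroup Ω} [Finite S] {p : ℕ} [hp : Fact p.Prime]
  {F : FusionSystem S} {E : FusionSystem T}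

theorem topCore_range [Finite T] {φ : topCore p T →* Ω} (hφ : φ ∈ E.Hom (topCore p T)) :
    φ.range = topCore p T := by
  haveI := finite_of_le (topCore_le (p := p) (T := T))
  obtain ⟨-, hsup, -⟩ := (isCore_topCore (p := p) (E := E)).map hφ
  obtain ⟨-, hj⟩ := jEA_eq_top (p := p) (topCore_le (T := T)) (le_sup_left : jEA p T ≤ topCore p T)
  have hJ : jEA p φ.range = jEA p T := by
    rw [(dEA_jEA_range (p := p) (E.injective_of_mem hφ)).2, hj,
      ← range_restrict φ (le_sup_left : jEA p T ≤ topCore p T)]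
    exact jEA_image (restrict_mem E hφ _)
  rw [hJ] at hsup
  exact hsup

/-- The centre of `P` inside the centre of a subgroup of `P` containing it. -/
def centerIncl {R P : Subgroup Ω} (hRP : R ≤ P) (hZ : ∀ z : Subgroup.center P, ((z : P) : Ω) ∈ R) :
    Subgroup.center P →* Subgroup.center R where
  toFun z := ⟨⟨((z : P) : Ω), hZ z⟩, Subgroup.mem_center_iff.2 fun g => Subtype.ext
    (congrArg Subtype.val (Subgroup.mem_center_iff.1 z.2 ⟨g, hRP g.2⟩) :)⟩
  map_one' := rfl
  map_mul' _ _ := rfl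

theorem center_le_topCore (z : Subgroup.center T) : ((z : T) : Ω) ∈ topCore p T :=
  Subgroup.mem_sup_right ⟨(z : T).2, Subgroup.mem_centralizer_iff.2 fun r hr =>
    congrArg Subtype.val (Subgroup.mem_center_iff.1 z.2 ⟨r, jEA_le T hr⟩)⟩

theorem exists_stage (h : Setting p F E)
    (hext : ∀ α ∈ E.autGroup T, ∃ β ∈ F.autGroup (T ⊔ centralizerIn S T),
      (∀ x : T, ((β (Subgroup.inclusion le_sup_left x) : ↥(T ⊔ centralizerIn S T)) : Ω) = ((α x : T) : Ω)) ∧
      ∀ c : ↥(T ⊔ centralizerIn S T), (c : Ω) ∈ centralizerIn S T →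
        (c : Ω)⁻¹ * ((β c : ↥(T ⊔ centralizerIn S T)) : Ω) ∈ T ⊓ Subgroup.centralizer (T : Set Ω))
    {x : Ω} (hx : x ∈ centralizerIn S T) :
    ∃ b : Subgroup.center T, x * ((b : T) : Ω) ∈ centralizerIn S T ∧
      HomGood F E (x * ((b : T) : Ω)) T ∧
      ∀ α ∈ E.autGroup (topCore p T), Ext F (topCore p T) (x * ((b : T) : Ω)) α 1 := by
  haveI := h.finT
  obtain ⟨b₁, hy₁, hL₁⟩ := exists_top_one h hx
  set y₁ := x * ((b₁ : T) : Ω) with hy₁def
  have hTS := h.hTc.1
  haveI : Finite (MulAut T) := Finite.of_injective _ DFunLike.coe_injective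
  have hR0 : topCore p T ≤ S := topCore_le.trans hTS
  haveI := finite_of_le hR0
  set ι := centerIncl (topCore_le (p := p) (T := T)) center_le_topCore
  set A := E.autGroup T
  have hA : A ≤ extGroup F hTS hy₁.1 := by
    intro α hα
    obtain ⟨β, hβ, hβ1, hβ2⟩ := hext α hα
    have hle : T ⊔ Subgroup.zpowers y₁ ≤ T ⊔ centralizerIn S T := sup_le_sup_left (Subgroup.zpowers_le.2 hy₁) _
    have hz := hβ2 ⟨y₁, Subgroup.mem_sup_right hy₁⟩ hy₁
    refine ⟨⟨⟨_, hz.1⟩, Subgroup.mem_center_iff.2 fun g => Subtype.ext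
      (Subgroup.mem_centralizer_iff.1 hz.2 _ g.2)⟩, _,
      restrict_mem F ((equivHom_autGroup F (sup_le hTS (centralizerIn_le _ _))).1 hβ) hle, fun r => hβ1 r, ?_⟩
    exact (mul_inv_cancel_left _ _).symm
  obtain ⟨d, hd, hmul, hinvK⟩ := exists_derivation hTS hy₁.1 A hA
  set Sy := (autInducedBy T T).subgroupOf A
  set act := zActOn A
  set K := kerZ F hTS hy₁.1
  set K0 := kerZ F hR0 hy₁.1
  have hfnT : E.IsFullyNormalized T := ⟨le_rfl, fun Q _ => by
    haveI : Finite (normalizerIn T T) := finite_of_le (normalizerIn_le _ _)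
    exact Subgroup.card_le_of_le ((normalizerIn_le T Q).trans (le_normalizerIn le_rfl))⟩
  have hsyl := isSyl_of_fullyAutomized (fullyNormalized_imp h.hTp h.hEsat hfnT).2
  have hSi : ¬ p ∣ Sy.index := hsyl.2.2
  have hdS : ∀ s ∈ Sy, d s ∈ K := by
    intro s hs
    obtain ⟨t, ht, hte⟩ := (mem_autInducedBy_iff _).1 hs
    have := (hd s).div_mem hTS hy₁.1 (Ext.conj hTS hy₁.1 (hTS ht)
      (Subgroup.mem_centralizer_iff.1 hy₁.2 t ht) hte)
    rwa [div_one] at this
  let B : Subgroup (Subgroup.center T) :=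
    { carrier := {z | ∀ l ∈ lGroup E (topCore p T), zAct _ l (ι z) / ι z ∈ K0}
      one_mem' := fun l _ => by rw [map_one, map_one, div_self']; exact K0.one_mem
      mul_mem' := fun {a c} ha hc l hl => by
        rw [map_mul, map_mul, mul_div_mul_comm]; exact K0.mul_mem (ha l hl) (hc l hl)
      inv_mem' := fun {a} ha l hl => by
        rw [map_inv, map_inv, inv_div_inv, ← inv_div]; exact K0.inv_mem (ha l hl) }
  have hdB : ∀ g : A, d g ∈ B := by
    intro g l hl
    have hgE := (equivHom_autGroup E le_rfl).1 g.2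
    obtain ⟨a, ha, hae⟩ := exists_autGroup_of_range E (restrict_mem E hgE (topCore_le (p := p))) (topCore_range (restrict_mem E hgE (topCore_le (p := p))))
    have hga : Ext F (topCore p T) y₁ a (ι (d g)) := (hd g).restrict topCore_le hae (ι (d g)) rfl
    have hl' : a⁻¹ * l * a⁻¹⁻¹ ∈ lGroup E (topCore p T) := lGroup_conj E (Subgroup.inv_mem _ ha) hl
    have h1 := hga.mul (hL₁ _ hl')
    have h2 := (hL₁ l hl).mul hga
    rw [map_one, mul_one, inv_inv, ← mul_assoc, ← mul_assoc, mul_inv_cancel, one_mul] at h1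
    rw [one_mul] at h2
    exact h2.div_mem hR0 hy₁.1 h1
  obtain ⟨b₂, hb₂B, hb₂, -⟩ := exists_inner (center_isPGroup h le_rfl) act Sy hSi K hinvK d hmul hdS B hdB
  have hye : x * ((((b₁ * b₂ : Subgroup.center T) : T)) : Ω) = y₁ * ((b₂ : T) : Ω) := by
    simp only [hy₁def, Subgroup.coe_mul, mul_assoc]
  set y := y₁ * ((b₂ : T) : Ω) with hydef
  have hy : y ∈ centralizerIn S T := Subgroup.mul_mem _ hy₁ ⟨hTS (b₂ : T).2,
    Subgroup.mem_centralizer_iff.2 fun t ht => congrArg Subtype.val (Subgroup.mem_center_iff.1 b₂.2 ⟨t, ht⟩)⟩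
  refine ⟨b₁ * b₂, ?_, ?_⟩
  · rw [hye]; exact hy
  rw [hye]
  have hT : ∀ α ∈ A, Ext F T y α 1 := by
    intro α hα
    have hk : Ext F T y 1 (d ⟨α, hα⟩ * (zAct T α b₂ / b₂)) :=
      (Ext.translate hTS hy₁.1 b₂ (hb₂ ⟨α, hα⟩)).congr (by rw [map_one, MulAut.one_apply, div_self', mul_one]; rfl)
    exact (Ext.translate hTS hy₁.1 b₂ (hd ⟨α, hα⟩)).one_of_mem hTS hy.1 hk
  have hgoodT : HomGood F E y T := by
    intro φ hφ
    have hr : φ.range = T := Subgroup.eq_of_le_of_card_ge (range_le E hφ) (isConj_card ⟨φ, hφ, rfl⟩).le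
    obtain ⟨α, hα, hαe⟩ := exists_autGroup_of_range E hφ hr
    exact hom_congr (centSystem F (Subgroup.zpowers_le.2 hy.1))
      ((hT α hα).good (h.le_cent hy) le_rfl) fun u => (hαe u).symm
  refine ⟨hgoodT, fun α hα => ext_of_lGroup h fullyNormalized_topCore hy (fun l hl => ?_) (fun Q hQ φ hφ => ?_) hα⟩
  · have hk : Ext F (topCore p T) y 1 (zAct _ l (ι b₂) / ι b₂) :=
      (Ext.translate hR0 hy₁.1 (ι b₂) (hb₂B l hl)).congr (by rw [map_one, MulAut.one_apply, div_self', mul_one])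
    exact ((Ext.translate hR0 hy₁.1 (ι b₂) (hL₁ l hl)).congr (one_mul _)).one_of_mem hR0 hy.1 hk
  · have hQT : Q = T := le_antisymm (hom_le E hφ)
      ((le_inf le_rfl (le_normalizer_topCore Subgroup.le_normalizer)).trans hQ)
    subst hQT
    exact hgoodT hφ

end Cfsg.Agent.Lim1
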