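import Cfsg.Agent.Lib.Lim1.Core
import Mathlib.Tactic.Abel

/-!
# The choice of the element centralizing the system
-/

set_option autoImplicit false
set_option linter.unusedSectionVars false
set_option linter.style.haveILetI false

namespace Cfsg.Agent.Lim1

open Cfsg Cfsg.FusionSystem Cfsg.Agent.FusionSys Cfsg.Agent.FusionSys.FocCent
open scoped IsMulCommutative

variable {Ω : Type*} [Group Ω] {S T : Subgroup Ω} [Finite S] {p : ℕ} [hp : Fact p.Prime]
  {F : FusionSystem S} {E : FusionSystem T}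

theorem cancel_identity {A : Type*} [CommGroup A] (u v w c z : A) :
    u * v / w * (w * c / z) / (u * c) = v / z := by
  apply Additive.ofMul.injective
  simp only [ofMul_mul, ofMul_div]
  abel

theorem congr_refl {R : Subgroup Ω} (l : MulAut R) : MulAut.congr (MulEquiv.refl R) l = l :=
  MulEquiv.ext fun _ => rfl

/-- The centric subgroups of `E` as seen in `F`. -/
theorem Setting.centric (h : Setting p F E) {P : Subgroup Ω} (hP : E.IsCentric P) (P' : Subgroup Ω)
    (hc : F.IsConj P P') : T ⊓ Subgroup.centralizer (P' : Set Ω) ≤ P' :=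
  haveI := h.finT
  centralizerIn_le_of_centric (centric_of_conj h.hinv hP hc)

omit [Finite S] in
theorem mem_center_top {R : Subgroup Ω} (z : Subgroup.center R) (hT : T ≤ Subgroup.centralizer ({((z : R) : Ω)} : Set Ω))
    (hR : R ≤ T) : ⟨((z : R) : Ω), hR (z : R).2⟩ ∈ Subgroup.center T :=
  Subgroup.mem_center_iff.2 fun g => Subtype.ext (Subgroup.mem_centralizer_singleton_iff.1 (hT g.2))

/-- After multiplying by a central element of `T`, the conjugates of the induced automorphisms of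
`J(T) C_T(J(T))` extend fixing the element. -/
theorem exists_top_one (h : Setting p F E) {x : Ω} (hx : x ∈ centralizerIn S T) :
    ∃ b : Subgroup.center T, x * ((b : T) : Ω) ∈ centralizerIn S T ∧
      ∀ l ∈ lGroup E (topCore p T), Ext F (topCore p T) (x * ((b : T) : Ω)) l 1 := by
  haveI := h.finT
  set R := topCore p T with hRdef
  have hRT : R ≤ T := topCore_le
  have hTS := h.hTc.1
  have hRS : R ≤ S := hRT.trans hTS
  haveI := finite_of_le hRS
  haveI : Finite (MulAut R) := Finite.of_injective _ DFunLike.coe_injective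
  have hSN : S ≤ Subgroup.normalizer (R : Set Ω) := le_normalizer_topCore (stronglyClosed_le_normalizer h.hTc)
  have hTn : T ≤ Subgroup.normalizer (R : Set Ω) := hTS.trans hSN
  have hfn : F.IsFullyNormalized R := ⟨hRS, fun Q _ => by
    haveI : Finite (normalizerIn S R) := finite_of_le (normalizerIn_le _ _)
    exact Subgroup.card_le_of_le ((normalizerIn_le S Q).trans (le_inf le_rfl hSN))⟩
  have hφ := subtype_mem F (normalizerIn_le S R)
  have hφR : (R.subgroupOf (normalizerIn S R)).map (normalizerIn S R).subtype = R := by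
    rw [Subgroup.subgroupOf_map_subtype, inf_of_le_left (le_normalizerIn hRS)]
  have hRc : T ⊓ Subgroup.centralizer (R : Set Ω) ≤ R := centralizerIn_le_of_centric (isCore_topCore (p := p) (E := E)).centric
  have hxC : x ∈ centralizerIn S R := ⟨hx.1, Subgroup.centralizer_le hRT hx.2⟩
  have hxN : x ∈ normalizerIn S R := centralizerIn_le_normalizerIn S R hxC
  set L := lGroup E R with hL
  have hlift : ∀ l : L, ∃ k, IsLift F R k ∧ Rel (le_rc R) k (l : MulAut R) := by
    intro l
    obtain ⟨k, hk, hkl⟩ := exists_lift h.hS h.hF h.hTc h.hEF hRT hφ hφR (fullyNormalized_imp h.hS h.hF hfn).1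
      hRc (MulEquiv.refl R) (fun r hr => rfl) l.2
    exact ⟨k, hk, by rwa [congr_refl] at hkl⟩
  choose lift hlift₁ hlift₂ using hlift
  let d : L → Subgroup.center R := fun l =>
    ⟨⟨disp (lift l) ⟨x, cent_le_rc R hxC⟩, ((hlift₁ l).2.2 _ hxC).1⟩,
      e_symm_center (MulEquiv.refl R) ((hlift₁ l).2.2 _ hxC)⟩
  have hd : ∀ l : L, Ext F R x (l : MulAut R) (d l) := fun l => by
    have := ext_of_lift h.hTc hRT hφ hφR hRS (MulEquiv.refl R) (fun r hr => rfl) hx hxN hxC (hlift₁ l)
      (by rw [congr_refl]; exact hlift₂ l)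
    exact this.congr (Subtype.ext (Subtype.ext rfl))
  set Sy := (autInducedBy T R).subgroupOf L
  set act := zActOn L
  set K := kerZ F hRS hx.1
  have hinvK : ∀ g : L, ∀ v ∈ K, act g v ∈ K := fun g v hv => kerZ_invariant hRS hx.1 ⟨_, hd g⟩ hv
  have hdS : ∀ s ∈ Sy, d s ∈ K := by
    intro s hs
    obtain ⟨t, ht, hte⟩ := (mem_autInducedBy_iff _).1 hs
    have := (hd s).div_mem hRS hx.1 (Ext.conj hRS hx.1 (hTS ht)
      (Subgroup.mem_centralizer_iff.1 hx.2 t ht) hte)
    rwa [div_one] at this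
  have hmul : ∀ g k : L, (d g * act g (d k)) / d (g * k) ∈ K := fun g k =>
    ((hd g).mul (hd k)).div_mem hRS hx.1 (hd (g * k))
  have hst : ∀ (g : L), ∀ s ∈ Sy, g * s * g⁻¹ ∈ Sy → act (g * s * g⁻¹) (d g) = d g := by
    intro g s hs hs'
    obtain ⟨t, ht, hte⟩ := (mem_autInducedBy_iff _).1 hs
    obtain ⟨t', ht', hte'⟩ := (mem_autInducedBy_iff _).1 hs'
    have := stable h.hS h.hF h.hTc hRT hSN hRc hx (cent_le_rc R hxC) (hlift₁ g) (hlift₂ g) ht ht' hte hte'
      (by simp)
    refine Subtype.ext (Subtype.ext ?_)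
    exact (hte' _).trans this
  -- the equivariant version of the displacement
  have hrep : ∀ g : L, ∃ s ∈ Sy, ∃ s₂ ∈ Sy, g = s * (DoubleCoset.mk Sy Sy g).out * s₂ := by
    intro g
    obtain ⟨a, k, ha, hk, he⟩ := DoubleCoset.mk_out_eq_mul Sy Sy g
    exact ⟨a⁻¹, Sy.inv_mem ha, k⁻¹, Sy.inv_mem hk, by rw [he]; group⟩
  choose s hs s₂ hs₂ hrep using hrep
  set r : L → L := fun g => (DoubleCoset.mk Sy Sy g).out with hr
  let f : L → Subgroup.center R := fun g => act (s g) (d (r g))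
  have hindep : ∀ g, ∀ a ∈ Sy, ∀ k ∈ Sy, g = a * r g * k → f g = act a (d (r g)) := by
    intro g a ha k hk he
    have h1 : r g * (s₂ g * k⁻¹) * (r g)⁻¹ = (s g)⁻¹ * a := by
      have e2 : s g * r g * s₂ g = a * r g * k := (hrep g).symm.trans he
      calc r g * (s₂ g * k⁻¹) * (r g)⁻¹ = (s g)⁻¹ * (s g * r g * s₂ g) * k⁻¹ * (r g)⁻¹ := by group
        _ = (s g)⁻¹ * a := by rw [e2]; group
    have h2 := hst (r g) _ (Sy.mul_mem (hs₂ g) (Sy.inv_mem hk)) (h1 ▸ Sy.mul_mem (Sy.inv_mem (hs g)) ha)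
    rw [h1, map_mul, MulAut.mul_apply] at h2
    show act (s g) (d (r g)) = _
    conv_lhs => rw [← h2]
    rw [← MulAut.mul_apply, ← map_mul, mul_inv_cancel, map_one, MulAut.one_apply]
  have hreq : ∀ g g' : L, (∃ a ∈ Sy, ∃ k ∈ Sy, g' = a * g * k) → r g' = r g := by
    rintro g g' ⟨a, ha, k, hk, rfl⟩
    have : DoubleCoset.mk Sy Sy (a * g * k) = DoubleCoset.mk Sy Sy g :=
      ((DoubleCoset.eq Sy Sy g (a * g * k)).2 ⟨a, ha, k, hk, rfl⟩).symm
    show (DoubleCoset.mk Sy Sy (a * g * k)).out = _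
    rw [this]
  have hf : ∀ g, f g / d g ∈ K := by
    intro g
    have h1 := hmul (s g) (r g)
    have h2 := hmul (s g * r g) (s₂ g)
    rw [← hrep g] at h2
    have h3 := K.mul_mem h1 h2
    have h4 := K.div_mem h3 (K.mul_mem (hdS _ (hs g)) (hinvK (s g * r g) _ (hdS _ (hs₂ g))))
    rwa [cancel_identity] at h4
  have hfK : ∀ g ∈ Sy, f g ∈ K := fun g hg => by
    have := K.mul_mem (hf g) (hdS g hg)
    rwa [div_mul_cancel] at this
  have hfmul : ∀ g k, (f g * act g (f k)) / f (g * k) ∈ K := by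
    intro g k
    have h1 := K.mul_mem (K.mul_mem (hf g) (hinvK g _ (hf k))) (hmul g k)
    have h2 := K.div_mem h1 (hf (g * k))
    rw [map_div] at h2
    convert h2 using 1
    rw [div_mul_div_comm, div_mul_div_cancel, div_div_div_cancel_right]
  have hL_le := lGroup_le E hRT
  have hsyl := isSyl_of_fullyAutomized (fullyNormalized_imp h.hTp h.hEsat (fullyNormalized_topCore (p := p) (E := E))).2
  have hSi : ¬ p ∣ Sy.index := fun hd' => hsyl.2.2 (hd'.trans (Dvd.intro _
    (Subgroup.relIndex_mul_relIndex _ L _ (autInducedBy_le_lGroup E R) hL_le)))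
  obtain ⟨b, -, hb, hbfix⟩ := exists_inner (center_isPGroup h hRT) act Sy hSi K hinvK f hfmul hfK ⊤
    fun _ => Subgroup.mem_top _
  have hbS : ∀ a ∈ Sy, act a b = b := by
    refine hbfix (fun g a ha => ?_) fun g a ha => ?_
    · have e1 := hreq g (g * a) ⟨1, Sy.one_mem, a, ha, by rw [one_mul]⟩
      rw [hindep (g * a) (s g) (hs g) (s₂ g * a) (Sy.mul_mem (hs₂ g) ha)
        (by rw [e1, ← mul_assoc, ← hrep g]), e1]
    · have e1 := hreq g (a * g) ⟨a, ha, 1, Sy.one_mem, by rw [mul_one]⟩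
      rw [hindep (a * g) (a * s g) (Sy.mul_mem ha (hs g)) (s₂ g) (hs₂ g)
        (by rw [e1, mul_assoc a, mul_assoc a, ← hrep g]), e1, map_mul, MulAut.mul_apply]
  -- the point is central in `T`
  have hbT : T ≤ Subgroup.centralizer ({((b : R) : Ω)} : Set Ω) := by
    intro t ht
    obtain ⟨c, hc, hce⟩ := exists_conjAut (P := R) ht (hTn ht)
    have := hbS ⟨c, autInducedBy_le_lGroup E R hc⟩ hc
    have h2 : t * ((b : R) : Ω) * t⁻¹ = ((b : R) : Ω) := by
      rw [← hce]; exact congrArg (fun u : Subgroup.center R => ((u : R) : Ω)) this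
    refine Subgroup.mem_centralizer_singleton_iff.2 ?_
    exact mul_inv_eq_iff_eq_mul.1 h2
  refine ⟨⟨⟨_, hRT (b : R).2⟩, mem_center_top b hbT hRT⟩, ?_, fun l hl => ?_⟩
  · refine Subgroup.mul_mem _ hx ⟨hTS (hRT (b : R).2), Subgroup.mem_centralizer_iff.2 fun t ht => ?_⟩
    exact Subgroup.mem_centralizer_singleton_iff.1 (hbT ht)
  · have hK : d ⟨l, hl⟩ * (act ⟨l, hl⟩ b / b) ∈ K := by
      have := K.mul_mem (K.inv_mem (hf ⟨l, hl⟩)) (hb ⟨l, hl⟩)
      rwa [inv_div, ← mul_assoc, div_mul_cancel] at this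
    have hK' : Ext F R (x * ((b : R) : Ω)) 1 (d ⟨l, hl⟩ * (act ⟨l, hl⟩ b / b)) :=
      (Ext.translate hRS hx.1 b hK).congr (by rw [map_one, MulAut.one_apply, div_self', mul_one])
    exact (Ext.translate hRS hx.1 b (hd ⟨l, hl⟩)).one_of_mem hRS
      (S.mul_mem hx.1 (hRS (b : R).2)) hK'

end Cfsg.Agent.Lim1
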